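import Mathlib

/-!
# Flat base change of invariants and étale base change at a prime
-/

universe u v

open TensorProduct

namespace Groth.Agent.InvEtale

section
variable (R D T : Type u) [CommRing R] [CommRing D] [CommRing T] [Algebra R D] [Algebra R T]
  (G : Type v) [Group G] [MulSemiringAction G T] [SMulCommClass G R T]

/-- The base changed action. -/
@[implicit_reducible]
noncomputable def tensorAction : MulSemiringAction G (D ⊗[R] T) where
  smul g z := Algebra.TensorProduct.map (AlgHom.id R D) (MulSemiringAction.toAlgHom R T g) z
  one_smul z := by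
    change Algebra.TensorProduct.map (AlgHom.id R D) (MulSemiringAction.toAlgHom R T (1 : G)) z = z
    induction z using TensorProduct.induction_on with
    | zero => simp
    | tmul a b => simp
    | add a b ha hb => rw [map_add, ha, hb]
  mul_smul g h z := by
    change Algebra.TensorProduct.map (AlgHom.id R D) (MulSemiringAction.toAlgHom R T (g * h)) z =
      Algebra.TensorProduct.map (AlgHom.id R D) (MulSemiringAction.toAlgHom R T g)
        (Algebra.TensorProduct.map (AlgHom.id R D) (MulSemiringAction.toAlgHom R T h) z)
    induction z using TensorProduct.induction_on with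
    | zero => simp
    | tmul a b => simp [mul_smul]
    | add a b ha hb => rw [map_add, ha, hb, map_add, map_add]
  smul_zero g := map_zero _
  smul_add g := map_add _
  smul_one g := map_one _
  smul_mul g := map_mul _

theorem tensorAction_tmul (g : G) (d : D) (t : T) :
    letI := tensorAction R D T G
    g • (d ⊗ₜ[R] t) = d ⊗ₜ[R] (g • t) := by
  letI := tensorAction R D T G
  exact Algebra.TensorProduct.map_tmul _ _ _ _

variable (S : Type u) [CommRing S] [Algebra R S] [Algebra S T] [IsScalarTower R S T] [SMulCommClass G S T]

theorem map_injective [Module.Flat R D] [FaithfulSMul S T] :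
    Function.Injective (Algebra.TensorProduct.map (AlgHom.id R D) (IsScalarTower.toAlgHom R S T)) :=
  Module.Flat.lTensor_preserves_injective_linearMap (M := D) (IsScalarTower.toAlgHom R S T).toLinearMap
    (FaithfulSMul.algebraMap_injective S T)

theorem smul_map (g : G) (s : D ⊗[R] S) :
    letI := tensorAction R D T G
    g • Algebra.TensorProduct.map (AlgHom.id R D) (IsScalarTower.toAlgHom R S T) s =
      Algebra.TensorProduct.map (AlgHom.id R D) (IsScalarTower.toAlgHom R S T) s := by
  letI := tensorAction R D T G
  induction s using TensorProduct.induction_on with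
  | zero => simp
  | tmul a b =>
    rw [Algebra.TensorProduct.map_tmul, tensorAction_tmul, IsScalarTower.coe_toAlgHom',
      Algebra.algebraMap_eq_smul_one, smul_comm, smul_one]
  | add a b ha hb => rw [map_add, smul_add, ha, hb]

theorem exists_of_invariant [Finite G] [Module.Flat R D] [Algebra.IsInvariant S T G] (z : D ⊗[R] T)
    (hz : letI := tensorAction R D T G; ∀ g : G, g • z = z) :
    ∃ s, Algebra.TensorProduct.map (AlgHom.id R D) (IsScalarTower.toAlgHom R S T) s = z := by
  classical
  have := Fintype.ofFinite G
  let d : T →ₗ[R] (G → T) :=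
    LinearMap.pi fun g => (MulSemiringAction.toAlgHom R T g).toLinearMap - LinearMap.id
  have hd : Function.Exact (IsScalarTower.toAlgHom R S T).toLinearMap d := by
    intro t
    constructor
    · intro h
      obtain ⟨s, hs⟩ := Algebra.IsInvariant.isInvariant (A := S) (G := G) t fun g => sub_eq_zero.1 (congrFun h g)
      exact ⟨s, hs⟩
    · rintro ⟨s, rfl⟩
      funext g
      simp [d, Algebra.algebraMap_eq_smul_one, smul_comm]
  have key : ∀ (g : G) (y : D ⊗[R] T),
      TensorProduct.piRight R R D (fun _ : G => T) (LinearMap.lTensor D d y) g =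
        Algebra.TensorProduct.map (AlgHom.id R D) (MulSemiringAction.toAlgHom R T g) y - y := by
    intro g y
    induction y using TensorProduct.induction_on with
    | zero => simp
    | tmul a r => simp [d, TensorProduct.tmul_sub]
    | add p q hp hq => simp only [map_add, Pi.add_apply, hp, hq]; abel
  have h0 : LinearMap.lTensor D d z = 0 := by
    apply (TensorProduct.piRight R R D (fun _ : G => T)).injective
    funext g
    rw [key, map_zero, Pi.zero_apply]
    exact sub_eq_zero.2 (hz g)
  exact (Module.Flat.lTensor_exact (M := D) hd z).1 h0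

theorem finite_map [Module.Finite S T] :
    (Algebra.TensorProduct.map (AlgHom.id R D) (IsScalarTower.toAlgHom R S T)).toRingHom.Finite := by
  set f := Algebra.TensorProduct.map (AlgHom.id R D) (IsScalarTower.toAlgHom R S T)
  letI := f.toRingHom.toAlgebra
  obtain ⟨s, hs⟩ := Module.finite_def.1 ‹Module.Finite S T›
  classical
  refine Module.finite_def.2 ⟨s.image fun t => (1 : D) ⊗ₜ[R] t, ?_⟩
  rw [eq_top_iff]
  rintro z -
  induction z using TensorProduct.induction_on with
  | zero => exact zero_mem _
  | add a b ha hb => exact add_mem ha hb
  | tmul d t =>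
    have ht : t ∈ Submodule.span S (s : Set T) := by rw [hs]; trivial
    induction ht using Submodule.span_induction with
    | mem t ht =>
      have h1 : d ⊗ₜ[R] t = (d ⊗ₜ[R] (1 : S)) • ((1 : D) ⊗ₜ[R] t) := by
        rw [Algebra.smul_def, RingHom.algebraMap_toAlgebra]
        simp [f, Algebra.TensorProduct.tmul_mul_tmul]
      rw [h1]
      exact Submodule.smul_mem _ _ (Submodule.subset_span (Finset.mem_image_of_mem _ ht))
    | zero => rw [tmul_zero]; exact zero_mem _
    | add a b _ _ ha hb => rw [tmul_add]; exact add_mem ha hb
    | smul c t _ h =>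
      have h1 : d ⊗ₜ[R] (c • t) = ((1 : D) ⊗ₜ[R] c) • (d ⊗ₜ[R] t) := by
        simp [f, Algebra.smul_def, RingHom.algebraMap_toAlgebra, Algebra.TensorProduct.tmul_mul_tmul]
      rw [h1]
      exact Submodule.smul_mem _ _ h

end

/-- Étaleness at a prime is stable under base change. -/
theorem isEtaleAt_of_isPushout (B A B' A' : Type u) [CommRing B] [CommRing A] [CommRing B'] [CommRing A']
    [Algebra B A] [Algebra B B'] [Algebra A A'] [Algebra B' A'] [Algebra B A'] [IsScalarTower B A A']
    [IsScalarTower B B' A'] [Algebra.IsPushout B B' A A'] [Algebra.FinitePresentation B A]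
    (x : Ideal A) [x.IsPrime] [Algebra.IsEtaleAt B x] (x' : Ideal A') [x'.IsPrime]
    (h : x'.comap (algebraMap A A') = x) : Algebra.IsEtaleAt B' x' := by
  obtain ⟨f, hf, het⟩ := Algebra.exists_etale_of_isEtaleAt (R := B) x
  let f' := algebraMap A A' f
  let Af := Localization.Away f
  let Af' := Localization.Away f'
  let ι : Af →+* Af' := Localization.awayMap (algebraMap A A') f
  letI : Algebra Af Af' := ι.toAlgebra
  have hι : (algebraMap Af Af').comp (algebraMap A Af) = (algebraMap A' Af').comp (algebraMap A A') :=
    RingHom.ext fun a => by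
      simp only [RingHom.comp_apply, RingHom.algebraMap_toAlgebra]
      exact IsLocalization.map_eq (M := Submonoid.powers f) (T := Submonoid.powers f') _ a
  haveI : IsScalarTower A Af Af' := IsScalarTower.of_algebraMap_eq fun a => by
    rw [IsScalarTower.algebraMap_apply A A' Af']
    exact (RingHom.congr_fun hι a).symm
  haveI : IsLocalization (Algebra.algebraMapSubmonoid A' (Submonoid.powers f)) Af' := by
    rw [Algebra.algebraMapSubmonoid_powers]
    exact inferInstanceAs (IsLocalization.Away f' Af')
  haveI : Algebra.IsPushout A Af A' Af' :=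
    (Algebra.isPushout_of_isLocalization (Submonoid.powers f) Af A' Af').symm
  haveI : IsScalarTower B Af Af' := IsScalarTower.of_algebraMap_eq fun b => by
    rw [IsScalarTower.algebraMap_apply B A' Af', IsScalarTower.algebraMap_apply B A A',
      IsScalarTower.algebraMap_apply B A Af]
    exact (RingHom.congr_fun hι (algebraMap B A b)).symm
  haveI hAB : Algebra.IsPushout B A B' A' := Algebra.IsPushout.symm inferInstance
  haveI : Algebra.IsPushout B Af B' Af' := (Algebra.IsPushout.comp_iff (R := B) (R' := B') (S := A) (S' := A')
    (T := Af) (T' := Af')).2 inferInstance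
  haveI hp : Algebra.IsPushout B B' Af Af' := Algebra.IsPushout.symm inferInstance
  haveI : Algebra.FinitePresentation B' A' :=
    Algebra.FinitePresentation.equiv (Algebra.IsPushout.equiv B B' A A')
  haveI : Algebra.Etale B Af := het
  haveI : Algebra.Etale B' Af' := Algebra.Etale.of_equiv (Algebra.IsPushout.equiv B B' Af Af')
  have het' : Algebra.Etale B' Af' := inferInstance
  refine ((Algebra.basicOpen_subset_etaleLocus_iff_etale (R := B') (f := f')).mpr het')
    (a := (⟨x', inferInstance⟩ : PrimeSpectrum A')) ?_
  exact fun hm => hf (h ▸ (show f ∈ x'.comap (algebraMap A A') from hm))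

end Groth.Agent.InvEtale
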