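import Groth.Agent.InvEtale.Power
import Groth.Agent.FlatMisc.PowLocal

/-!
# Comparing two invariant rings along an equivariant map with matching stabilizers
-/

universe u v

open scoped Pointwise TensorProduct

namespace Groth.Agent.InvEtale

variable {B0 A0 B A : Type u} [CommRing B0] [CommRing A0] [CommRing B] [CommRing A]
  [Algebra B0 A0] [Algebra B0 B] [Algebra A0 A] [IsNoetherianRing B0] [IsNoetherianRing A0]
  [Module.Finite B0 B] [Module.Finite A0 A] [FaithfulSMul B0 B] [FaithfulSMul A0 A]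
  {G : Type v} [Group G] [Finite G] [MulSemiringAction G B] [MulSemiringAction G A]
  [SMulCommClass G B0 B] [SMulCommClass G A0 A] [Algebra.IsInvariant B0 B G] [Algebra.IsInvariant A0 A G]

theorem smul_algebraMap' {R S : Type u} [CommRing R] [CommRing S] [Algebra R S] [MulSemiringAction G S]
    [SMulCommClass G R S] (g : G) (r : R) : g • algebraMap R S r = algebraMap R S r :=
  (MulSemiringAction.toAlgHom R S g).commutes r

/-- An ideal extended from the invariants is stable. -/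
theorem smul_mem_map {R S : Type u} [CommRing R] [CommRing S] [Algebra R S] [MulSemiringAction G S]
    [SMulCommClass G R S] (I : Ideal R) (g : G) {s : S} (hs : s ∈ I.map (algebraMap R S)) :
    g • s ∈ I.map (algebraMap R S) := by
  rw [Ideal.map] at hs
  induction hs using Submodule.span_induction with
  | mem _ h =>
    obtain ⟨c, hc, rfl⟩ := h
    rw [smul_algebraMap' g c]
    exact Ideal.mem_map_of_mem _ hc
  | zero => rw [smul_zero]; exact zero_mem _
  | add a b _ _ h h' => rw [smul_add]; exact add_mem h h'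
  | smul r a _ h => rw [smul_eq_mul, smul_mul']; exact Ideal.mul_mem_left _ _ h

variable (φ : B →+* A) (hφ : ∀ c, φ (algebraMap B0 B c) = algebraMap A0 A (algebraMap B0 A0 c))
  (hφG : ∀ (g : G) (b : B), φ (g • b) = g • φ b)
  (z : Ideal B0) [z.IsMaximal] (x : Ideal A) [x.IsPrime]
  (hz : ((x.comap φ)).comap (algebraMap B0 B) = z)
  (hy : (x.comap (algebraMap A0 A)).IsMaximal)
  (hstab : ∀ g : G, g • x.comap φ = x.comap φ → g • x = x)
  (hloc : ∀ N : ℕ,
    (∀ b, ∀ s ∉ x, s * φ b ∈ ((z.map (algebraMap B0 B)) ^ N).map φ → ∃ t ∉ x.comap φ, t * b ∈ (z.map (algebraMap B0 B)) ^ N) ∧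
    (∀ a, ∃ b t v, t ∉ x.comap φ ∧ v ∉ x ∧ v * (φ b - φ t * a) ∈ ((z.map (algebraMap B0 B)) ^ N).map φ) ∧
    (∀ a ∈ x, ∃ M v, v ∉ x ∧ v * a ^ M ∈ ((z.map (algebraMap B0 B)) ^ N).map φ))

include hφ hφG hz hy hstab hloc

/-- The two comparisons modulo powers. -/
theorem compare_pow (n : ℕ) :
    (∀ a : A0, ∃ b : B0, ∃ u ∉ x.comap (algebraMap A0 A),
      u * (a - algebraMap B0 A0 b) ∈ (z ^ n).map (algebraMap B0 A0)) ∧
    (∀ (b : B0), ∀ u ∉ x.comap (algebraMap A0 A),
      u * algebraMap B0 A0 b ∈ (z ^ n).map (algebraMap B0 A0) → b ∈ z ^ n) := by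
  classical
  have := Fintype.ofFinite G
  set y := x.comap (algebraMap A0 A)
  set w := x.comap φ
  haveI : Algebra.IsIntegral B0 B := Algebra.IsIntegral.of_finite B0 B
  haveI : Algebra.IsIntegral A0 A := Algebra.IsIntegral.of_finite A0 A
  set K : ℕ → Ideal A := fun N => ((z ^ N).map (algebraMap B0 A0)).map (algebraMap A0 A)
  have hK : ∀ N, ((z.map (algebraMap B0 B)) ^ N).map φ = K N := fun N => by
    rw [← Ideal.map_pow, Ideal.map_map]
    simp only [K, Ideal.map_map]
    congr 1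
    exact RingHom.ext hφ
  have hKB : ∀ N, (z.map (algebraMap B0 B)) ^ N = (z ^ N).map (algebraMap B0 B) := fun N =>
    (Ideal.map_pow _ _ _).symm
  have hKstable : ∀ N (g : G) a, a ∈ K N → g • a ∈ K N := fun N g a h => smul_mem_map _ g h
  -- points over `y`
  have horbA : ∀ Q : Ideal A, Q.IsPrime → Q.comap (algebraMap A0 A) = y → ∃ h : G, Q = h • x :=
    fun Q hQ e => Algebra.IsInvariant.exists_smul_of_under_eq A0 A G x Q e.symm
  -- points over `z`
  have horbB : ∀ Q : Ideal B, Q.IsPrime → z ≤ Q.comap (algebraMap B0 B) → ∃ h : G, Q = h • w :=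
    fun Q hQ e => Algebra.IsInvariant.exists_smul_of_under_eq B0 B G w Q
      (hz.trans (Ideal.IsMaximal.eq_of_le ‹_› (Ideal.IsPrime.comap _ : (Q.comap (algebraMap B0 B)).IsPrime).ne_top e))
  have hwmax : w.IsMaximal := Ideal.isMaximal_of_isIntegral_of_isMaximal_comap (R := B0) w (hz ▸ ‹_›)
  -- an element outside `w` inside the other points
  obtain ⟨t', ht'w, ht'⟩ : ∃ t' ∉ w, ∀ h : G, h • w ≠ w → t' ∈ h • w := by
    have : ∀ h : G, ∃ c ∉ w, h • w ≠ w → c ∈ h • w := fun h => by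
      by_cases e : h • w = w
      · exact ⟨1, fun h1 => hwmax.ne_top ((Ideal.eq_top_iff_one _).2 h1), fun h' => absurd e h'⟩
      · have hmax : (h • w).IsMaximal := by
          refine Ideal.isMaximal_of_isIntegral_of_isMaximal_comap (R := B0) _ ?_
          have : (h • w).comap (algebraMap B0 B) = z := by
            ext c
            rw [Ideal.mem_comap, ← hz, Ideal.mem_comap, Ideal.mem_pointwise_smul_iff_inv_smul_mem, smul_algebraMap']
          rw [this]; infer_instance
        obtain ⟨c, hc, hc'⟩ := Set.not_subset.1 fun hle : (h • w : Ideal B) ≤ w => e (hmax.eq_of_le hwmax.ne_top hle)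
        exact ⟨c, hc', fun _ => hc⟩
    choose c hc hc' using this
    exact ⟨∏ h, c h, fun hm => by
      obtain ⟨h, -, hh⟩ := Ideal.IsPrime.prod_mem_iff.1 hm
      exact hc h hh, fun h hh => Ideal.prod_mem _ (Finset.mem_univ h) (hc' h hh)⟩
  -- the semilocal comparison
  have hsurj : ∀ N (a : A), ∃ b : B, ∃ u ∉ y, algebraMap A0 A u * (φ b - a) ∈ K N := by
    intro N a
    let J : Ideal B :=
      { carrier := {t | ∃ b : B, ∃ u ∉ y, algebraMap A0 A u * (φ b - φ t * a) ∈ K N}
        zero_mem' := ⟨0, 1, fun h => hy.ne_top ((Ideal.eq_top_iff_one _).2 h), by simp⟩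
        add_mem' := by
          rintro t₁ t₂ ⟨b₁, u₁, hu₁, h₁⟩ ⟨b₂, u₂, hu₂, h₂⟩
          refine ⟨b₁ + b₂, u₁ * u₂, fun h => (hy.isPrime.mem_or_mem h).elim hu₁ hu₂, ?_⟩
          rw [show algebraMap A0 A (u₁ * u₂) * (φ (b₁ + b₂) - φ (t₁ + t₂) * a) =
            algebraMap A0 A u₂ * (algebraMap A0 A u₁ * (φ b₁ - φ t₁ * a)) +
            algebraMap A0 A u₁ * (algebraMap A0 A u₂ * (φ b₂ - φ t₂ * a)) by simp only [map_add, map_mul]; ring]
          exact add_mem (Ideal.mul_mem_left _ _ h₁) (Ideal.mul_mem_left _ _ h₂)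
        smul_mem' := by
          rintro c t ⟨b, u, hu, h⟩
          refine ⟨c * b, u, hu, ?_⟩
          rw [smul_eq_mul, show algebraMap A0 A u * (φ (c * b) - φ (c * t) * a) =
            φ c * (algebraMap A0 A u * (φ b - φ t * a)) by simp only [map_mul]; ring]
          exact Ideal.mul_mem_left _ _ h }
    suffices h : (1 : B) ∈ J by
      obtain ⟨b, u, hu, h⟩ := h
      exact ⟨b, u, hu, by simpa using h⟩
    by_contra hJ
    obtain ⟨Q, hQ, hJQ⟩ := Ideal.exists_le_maximal J fun e => hJ (e ▸ trivial)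
    have hzQ : z ≤ Q.comap (algebraMap B0 B) := fun c hc => by
      refine hQ.isPrime.mem_of_pow_mem N (hJQ ⟨0, 1, fun h => hy.ne_top ((Ideal.eq_top_iff_one _).2 h), ?_⟩)
      rw [map_one, one_mul, map_zero, zero_sub]
      refine neg_mem (Ideal.mul_mem_right _ _ ?_)
      rw [← map_pow, hφ]
      exact Ideal.mem_map_of_mem _ (Ideal.mem_map_of_mem _ (Ideal.pow_mem_pow hc N))
    obtain ⟨g, rfl⟩ := horbB Q hQ.isPrime hzQ
    obtain ⟨b, t, v, ht, hv, hvc⟩ := (hloc N).2.1 (g⁻¹ • a)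
    rw [hK] at hvc
    have hM : ∀ h : G, ∃ M, h • x = x ∨ ∃ e ∉ h • x, e * φ t' ^ M ∈ K N := fun h => by
      by_cases e : h • x = x
      · exact ⟨0, .inl e⟩
      · have hmem : h⁻¹ • φ t' ∈ x := by
          have h1 : h⁻¹ • t' ∈ w := Ideal.mem_pointwise_smul_iff_inv_smul_mem.1 (ht' h fun h' => e (hstab h h'))
          rw [← hφG]; exact h1
        obtain ⟨M, e', he', hk⟩ := (hloc N).2.2 _ hmem
        rw [hK] at hk
        refine ⟨M, .inr ⟨h • e', fun hm => he' (Ideal.smul_mem_pointwise_smul_iff.1 hm), ?_⟩⟩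
        have := hKstable N h _ hk
        rwa [smul_mul', smul_pow', smul_inv_smul] at this
    choose M hM using hM
    let M0 := Finset.univ.sup M
    set c := φ b - φ t * (g⁻¹ • a) with hcdef
    let L : Ideal A := (K N).colon {φ t' ^ M0 * c}
    obtain ⟨u, huL, huy⟩ : ∃ u, algebraMap A0 A u ∈ L ∧ u ∉ y := by
      by_contra hh; push Not at hh
      obtain ⟨Q, hLQ, hQp, hQy⟩ := Ideal.exists_ideal_over_prime_of_isIntegral (R := A0) y L hh
      obtain ⟨h, rfl⟩ := horbA Q hQp hQy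
      rcases hM h with e | ⟨e, he, hk⟩
      · refine hv (e ▸ hLQ (Submodule.mem_colon_singleton.2 ?_))
        rw [smul_eq_mul, mul_left_comm]
        exact Ideal.mul_mem_left _ _ hvc
      · refine he (hLQ (Submodule.mem_colon_singleton.2 ?_))
        obtain ⟨d, hd⟩ := Nat.exists_eq_add_of_le (Finset.le_sup (f := M) (Finset.mem_univ h))
        rw [smul_eq_mul, show φ t' ^ M0 = φ t' ^ M h * φ t' ^ d by rw [← pow_add, ← hd],
          show e * (φ t' ^ M h * φ t' ^ d * c) = (e * φ t' ^ M h) * (φ t' ^ d * c) by ring]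
        exact Ideal.mul_mem_right _ _ hk
    have h1 : algebraMap A0 A u * (φ t' ^ M0 * c) ∈ K N := Submodule.mem_colon_singleton.1 huL
    have h2 := hKstable N g _ h1
    have hmem : g • (t' ^ M0 * t) ∈ J := by
      refine ⟨g • (t' ^ M0 * b), u, huy, ?_⟩
      convert h2 using 1
      simp only [hcdef, smul_mul', smul_sub, smul_algebraMap', smul_inv_smul, hφG, map_mul, map_pow, smul_pow']
      ring
    have h3 := Ideal.smul_mem_pointwise_smul_iff.1 (hJQ hmem)
    rcases (inferInstance : w.IsPrime).mem_or_mem h3 with h' | h'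
    · exact ht'w ((inferInstance : w.IsPrime).mem_of_pow_mem _ h')
    · exact ht h'
  have hinj : ∀ N (b : B), ∀ u ∉ y, algebraMap A0 A u * φ b ∈ K N → b ∈ (z ^ N).map (algebraMap B0 B) := by
    intro N b u hu hb
    by_contra hcon
    obtain ⟨Q, hQ, hJQ⟩ := Ideal.exists_le_maximal (((z ^ N).map (algebraMap B0 B)).colon {b})
      fun e => hcon (by
        have := Submodule.mem_colon_singleton.1 (e ▸ trivial : (1 : B) ∈ ((z ^ N).map (algebraMap B0 B)).colon {b})
        simpa using this)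
    have hzQ : z ≤ Q.comap (algebraMap B0 B) := fun c hc => by
      refine hQ.isPrime.mem_of_pow_mem N (hJQ (Submodule.mem_colon_singleton.2 (Ideal.mul_mem_right _ _ ?_)))
      rw [← map_pow]
      exact Ideal.mem_map_of_mem _ (Ideal.pow_mem_pow hc N)
    obtain ⟨g, rfl⟩ := horbB Q hQ.isPrime hzQ
    obtain ⟨t, ht, htb⟩ := (hloc N).1 (g⁻¹ • b) (algebraMap A0 A u) hu (by
      rw [hK, hφG, ← smul_algebraMap' g⁻¹ u, ← smul_mul']
      exact hKstable N _ _ hb)
    rw [hKB] at htb
    refine ht (Ideal.smul_mem_pointwise_smul_iff.1 (hJQ (Submodule.mem_colon_singleton.2 ?_)))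
    have := smul_mem_map (z ^ N) g htb
    rwa [smul_mul', smul_inv_smul] at this
  -- Artin–Rees
  obtain ⟨c₁, hc₁⟩ := exists_invariant_approx (G := G) (R := B0) (S := B) z
  obtain ⟨c₂, hc₂⟩ := exists_comap_pow_le (R := A0) (S := A) (z.map (algebraMap B0 A0))
  obtain ⟨c₃, hc₃⟩ := exists_comap_pow_le (R := B0) (S := B) z
  have h1y : (1 : A0) ∉ y := fun h => hy.ne_top ((Ideal.eq_top_iff_one _).2 h)
  have hP : ∀ n (a : A0), ∃ b : B0, ∃ u ∉ y,
      u * (a - algebraMap B0 A0 b) ∈ (z ^ n).map (algebraMap B0 A0) := by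
    intro n a
    obtain ⟨b, u, hu, hb⟩ := hsurj (n + c₂ + c₁) (algebraMap A0 A a)
    have hgb : ∀ g : G, g • b - b ∈ (z ^ (n + c₂ + c₁)).map (algebraMap B0 B) := fun g => by
      refine hinj _ _ u hu ?_
      have h1 := sub_mem (hKstable _ g _ hb) hb
      convert h1 using 1
      simp only [smul_mul', smul_sub, smul_algebraMap', hφG, map_sub]
      ring
    obtain ⟨r, hr⟩ := hc₁ _ b hgb
    refine ⟨r, u, hu, ?_⟩
    rw [Ideal.map_pow]
    refine hc₂ n _ ?_
    rw [← Ideal.map_pow]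
    change _ ∈ K (n + c₂)
    have h1 : φ (b - algebraMap B0 B r) ∈ K (n + c₂) := by
      rw [← hK, hKB]; exact Ideal.mem_map_of_mem _ hr
    have h2 : algebraMap A0 A u * (φ b - algebraMap A0 A a) ∈ K (n + c₂) :=
      Ideal.map_mono (Ideal.map_mono (Ideal.pow_le_pow_right (Nat.le_add_right _ _))) hb
    rw [show algebraMap A0 A (u * (a - algebraMap B0 A0 r)) =
      algebraMap A0 A u * φ (b - algebraMap B0 B r) - algebraMap A0 A u * (φ b - algebraMap A0 A a) by
        simp only [map_mul, map_sub, hφ]; ring]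
    exact sub_mem (Ideal.mul_mem_left _ _ h1) h2
  refine ⟨hP n, fun b u hu h => ?_⟩
  obtain ⟨bs, u', hu', hs⟩ := hP (n + c₃) u
  -- rewrite `u * b` by invariant coefficients
  have hall : ∀ e ∈ (z ^ n).map (algebraMap B0 A0), ∃ e0 ∈ z ^ n, ∃ v ∉ y,
      v * (e - algebraMap B0 A0 e0) ∈ (z ^ (n + c₃)).map (algebraMap B0 A0) := by
    intro e he
    rw [Ideal.map] at he
    induction he using Submodule.span_induction with
    | mem _ h => obtain ⟨c, hc, rfl⟩ := h; exact ⟨c, hc, 1, h1y, by simp⟩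
    | zero => exact ⟨0, zero_mem _, 1, h1y, by simp⟩
    | add e e' _ _ h h' =>
      obtain ⟨c, hc, v, hv, hh⟩ := h; obtain ⟨c', hc', v', hv', hh'⟩ := h'
      refine ⟨c + c', add_mem hc hc', v * v', fun hm => (hy.isPrime.mem_or_mem hm).elim hv hv', ?_⟩
      rw [show v * v' * (e + e' - algebraMap B0 A0 (c + c')) =
        v' * (v * (e - algebraMap B0 A0 c)) + v * (v' * (e' - algebraMap B0 A0 c')) by rw [map_add]; ring]
      exact add_mem (Ideal.mul_mem_left _ _ hh) (Ideal.mul_mem_left _ _ hh')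
    | smul r e _ h =>
      obtain ⟨c, hc, v, hv, hh⟩ := h
      obtain ⟨r0, v', hv', hr0⟩ := hP (n + c₃) r
      refine ⟨r0 * c, Ideal.mul_mem_left _ _ hc, v * v', fun hm => (hy.isPrime.mem_or_mem hm).elim hv hv', ?_⟩
      rw [show v * v' * (r • e - algebraMap B0 A0 (r0 * c)) =
        (r * v') * (v * (e - algebraMap B0 A0 c)) + (v * algebraMap B0 A0 c) * (v' * (r - algebraMap B0 A0 r0)) by
          rw [map_mul, smul_eq_mul]; ring]
      exact add_mem (Ideal.mul_mem_left _ _ hh) (Ideal.mul_mem_left _ _ hr0)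
  obtain ⟨e0, he0, v, hv, hve⟩ := hall _ h
  have h1 : (u' * v) * algebraMap B0 A0 (bs * b - e0) ∈ (z ^ (n + c₃)).map (algebraMap B0 A0) := by
    rw [show (u' * v) * algebraMap B0 A0 (bs * b - e0) = u' * (v * (u * algebraMap B0 A0 b - algebraMap B0 A0 e0)) -
      (v * algebraMap B0 A0 b) * (u' * (u - algebraMap B0 A0 bs)) by simp only [map_sub, map_mul]; ring]
    exact sub_mem (Ideal.mul_mem_left _ _ hve) (Ideal.mul_mem_left _ _ hs)
  have h2 : bs * b - e0 ∈ z ^ n := hc₃ n _ (hinj (n + c₃) _ (u' * v) (fun hm => (hy.isPrime.mem_or_mem hm).elim hu' hv)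
    (by
      rw [hφ, ← map_mul]
      exact Ideal.mem_map_of_mem _ h1))
  have h3 : bs * b ∈ z ^ n := by simpa using add_mem h2 he0
  rcases Nat.eq_zero_or_pos n with rfl | hn
  · simp [Ideal.one_eq_top]
  have hbs : bs ∉ z := fun hm => by
    have hzy : z.map (algebraMap B0 A0) ≤ y := Ideal.map_le_iff_le_comap.2 fun c hc => by
      show algebraMap A0 A (algebraMap B0 A0 c) ∈ x
      rw [← hφ]
      rw [← hz] at hc; exact hc
    have h4 : u' * (u - algebraMap B0 A0 bs) ∈ y :=
      hzy (Ideal.map_mono (Ideal.pow_le_self (by omega)) hs)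
    have h5 := (hy.isPrime.mem_or_mem h4).resolve_left hu'
    exact hu (by simpa using add_mem h5 (hzy (Ideal.mem_map_of_mem _ hm)))
  exact (Ideal.IsMaximal.mul_mem_pow z h3).resolve_left hbs

end Groth.Agent.InvEtale
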