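import Groth.Agent.InvEtale.Main

/-!
# The fixed subalgebra form
-/

universe u

namespace Groth.Agent.InvEtale

variable (R : Type u) [CommRing R] [IsNoetherianRing R] (B : Type u) [CommRing B] [Algebra R B]
  [Algebra.FiniteType R B] (G : Type u) [Group G] [Finite G] [MulSemiringAction G B] [SMulCommClass G R B]

instance : Algebra.IsInvariant (FixedPoints.subalgebra R B G) B G := ⟨fun b h => ⟨⟨b, h⟩, rfl⟩⟩

instance : SMulCommClass G (FixedPoints.subalgebra R B G) B := ⟨fun g c b => by
  change g • ((c : B) * b) = (c : B) * g • b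
  rw [smul_mul', c.2 g]⟩

theorem finite_fixed : Module.Finite (FixedPoints.subalgebra R B G) B ∧
    Algebra.FiniteType R (FixedPoints.subalgebra R B G) := by
  haveI := Algebra.IsInvariant.isIntegral (FixedPoints.subalgebra R B G) B G
  haveI : Algebra.FiniteType (FixedPoints.subalgebra R B G) B :=
    Algebra.FiniteType.of_restrictScalars_finiteType R (FixedPoints.subalgebra R B G) B
  haveI hfin : Module.Finite (FixedPoints.subalgebra R B G) B := Algebra.IsIntegral.finite
  exact ⟨hfin, ⟨fg_of_fg_of_fg R (FixedPoints.subalgebra R B G) B Algebra.FiniteType.out Module.Finite.fg_top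
    Subtype.val_injective⟩⟩

theorem isEtaleAt_fixed (A : Type u) [CommRing A] [Algebra R A] [Algebra.FiniteType R A]
    [MulSemiringAction G A] [SMulCommClass G R A] [Algebra B A] [IsScalarTower R B A]
    (hGeq : ∀ (g : G) (b : B), algebraMap B A (g • b) = g • algebraMap B A b)
    [Algebra (FixedPoints.subalgebra R B G) (FixedPoints.subalgebra R A G)]
    [IsScalarTower (FixedPoints.subalgebra R B G) (FixedPoints.subalgebra R A G) A]
    (x : Ideal A) [x.IsPrime] (hx : Algebra.IsEtaleAt B x)
    (hin : x.inertia G = (x.comap (algebraMap B A)).inertia G) :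
    Algebra.IsEtaleAt (FixedPoints.subalgebra R B G)
      (x.comap (algebraMap (FixedPoints.subalgebra R A G) A)) := by
  obtain ⟨hfB, hftB⟩ := finite_fixed R B G
  obtain ⟨hfA, hftA⟩ := finite_fixed R A G
  haveI : IsNoetherianRing (FixedPoints.subalgebra R B G) := Algebra.FiniteType.isNoetherianRing R _
  haveI : IsScalarTower R (FixedPoints.subalgebra R B G) (FixedPoints.subalgebra R A G) :=
    IsScalarTower.of_algebraMap_eq fun r => by
      refine Subtype.val_injective ?_
      change algebraMap R A r = algebraMap (FixedPoints.subalgebra R A G) A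
        (algebraMap (FixedPoints.subalgebra R B G) (FixedPoints.subalgebra R A G) (algebraMap R _ r))
      rw [← IsScalarTower.algebraMap_apply (FixedPoints.subalgebra R B G) (FixedPoints.subalgebra R A G) A]
      exact IsScalarTower.algebraMap_apply R B A r
  haveI : Algebra.FiniteType (FixedPoints.subalgebra R B G) (FixedPoints.subalgebra R A G) :=
    Algebra.FiniteType.of_restrictScalars_finiteType R _ _
  haveI : FaithfulSMul (FixedPoints.subalgebra R B G) B :=
    (faithfulSMul_iff_algebraMap_injective _ _).2 Subtype.val_injective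
  haveI : FaithfulSMul (FixedPoints.subalgebra R A G) A :=
    (faithfulSMul_iff_algebraMap_injective _ _).2 Subtype.val_injective
  exact isEtaleAt_invariants (B0 := FixedPoints.subalgebra R B G) (A0 := FixedPoints.subalgebra R A G)
    (B := B) hGeq x hin

theorem etale_fixed (A : Type u) [CommRing A] [Algebra R A] [Algebra.FiniteType R A]
    [MulSemiringAction G A] [SMulCommClass G R A] [Algebra B A] [IsScalarTower R B A]
    (hGeq : ∀ (g : G) (b : B), algebraMap B A (g • b) = g • algebraMap B A b)
    [Algebra (FixedPoints.subalgebra R B G) (FixedPoints.subalgebra R A G)]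
    [IsScalarTower (FixedPoints.subalgebra R B G) (FixedPoints.subalgebra R A G) A]
    (h : ∀ (x : Ideal A) (_ : x.IsMaximal),
      Algebra.IsEtaleAt B x ∧ x.inertia G = (x.comap (algebraMap B A)).inertia G) :
    Algebra.Etale (FixedPoints.subalgebra R B G) (FixedPoints.subalgebra R A G) := by
  obtain ⟨hfA, hftA⟩ := finite_fixed R A G
  obtain ⟨hfB, hftB⟩ := finite_fixed R B G
  haveI : IsScalarTower R (FixedPoints.subalgebra R B G) (FixedPoints.subalgebra R A G) :=
    IsScalarTower.of_algebraMap_eq fun r => by
      refine Subtype.val_injective ?_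
      change algebraMap R A r = algebraMap (FixedPoints.subalgebra R A G) A
        (algebraMap (FixedPoints.subalgebra R B G) (FixedPoints.subalgebra R A G) (algebraMap R _ r))
      rw [← IsScalarTower.algebraMap_apply (FixedPoints.subalgebra R B G) (FixedPoints.subalgebra R A G) A]
      exact IsScalarTower.algebraMap_apply R B A r
  haveI : IsNoetherianRing (FixedPoints.subalgebra R B G) := Algebra.FiniteType.isNoetherianRing R _
  haveI : Algebra.FiniteType (FixedPoints.subalgebra R B G) (FixedPoints.subalgebra R A G) :=
    Algebra.FiniteType.of_restrictScalars_finiteType R _ _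
  haveI : Algebra.FinitePresentation (FixedPoints.subalgebra R B G) (FixedPoints.subalgebra R A G) :=
    Algebra.FinitePresentation.of_finiteType.mp inferInstance
  haveI := Algebra.IsInvariant.isIntegral (FixedPoints.subalgebra R A G) A G
  refine Algebra.etaleLocus_eq_univ_iff_etale.mp (Set.eq_univ_iff_forall.mpr fun q => ?_)
  obtain ⟨m, hm, hqm⟩ := Ideal.exists_le_maximal q.asIdeal q.isPrime.ne_top
  obtain ⟨x, hx, hxm⟩ := Ideal.exists_ideal_over_maximal_of_isIntegral (S := A) m
    (le_of_eq_of_le ((RingHom.injective_iff_ker_eq_bot _).1 Subtype.val_injective) bot_le)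
  have he := isEtaleAt_fixed R B G A hGeq x (h x hx).1 (h x hx).2
  refine (Algebra.isOpen_etaleLocus (R := FixedPoints.subalgebra R B G)).stableUnderGeneralization
    ((PrimeSpectrum.le_iff_specializes q ⟨x.comap (algebraMap _ A), inferInstance⟩).mp ?_) he
  change q.asIdeal ≤ x.comap _
  rw [hxm]
  exact hqm

end Groth.Agent.InvEtale
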