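import Groth.Agent.FlatMisc.PowLocal

/-!
# Flatness and unramifiedness from bijectivity modulo powers
-/

universe u

open IsLocalRing TensorProduct

namespace Groth.Agent.InvEtale

variable {B0 A0 : Type u} [CommRing B0] [CommRing A0] [Algebra B0 A0] [IsNoetherianRing B0]
  [IsNoetherianRing A0] (z : Ideal B0) [z.IsMaximal] (y : Ideal A0) [y.IsPrime]
  (hzy : y.comap (algebraMap B0 A0) = z)
  (hP : ∀ n (a : A0), ∃ b : B0, ∃ u ∉ y, u * (a - algebraMap B0 A0 b) ∈ (z ^ n).map (algebraMap B0 A0))
  (hQ : ∀ n (b : B0), ∀ u ∉ y, u * algebraMap B0 A0 b ∈ (z ^ n).map (algebraMap B0 A0) → b ∈ z ^ n)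

include hzy hP

theorem residue_surj (a : A0) : ∃ b : B0, a - algebraMap B0 A0 b ∈ y := by
  obtain ⟨b, u, hu, h⟩ := hP 1 a
  rw [pow_one] at h
  have h1 : u * (a - algebraMap B0 A0 b) ∈ y := Ideal.map_le_iff_le_comap.2 hzy.ge h
  exact ⟨b, (Ideal.IsPrime.mem_or_mem inferInstance h1).resolve_left hu⟩

theorem map_eq_maximal :
    z.map (algebraMap B0 (Localization.AtPrime y)) = maximalIdeal (Localization.AtPrime y) := by
  rw [IsScalarTower.algebraMap_eq B0 A0 (Localization.AtPrime y), ← Ideal.map_map,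
    ← Localization.AtPrime.map_eq_maximalIdeal]
  refine le_antisymm (Ideal.map_mono (Ideal.map_le_iff_le_comap.2 hzy.ge)) ?_
  rw [Ideal.map_le_iff_le_comap]
  intro a ha
  obtain ⟨b, u, hu, h⟩ := hP 1 a
  rw [pow_one] at h
  have h1 : u * (a - algebraMap B0 A0 b) ∈ y := Ideal.map_le_iff_le_comap.2 hzy.ge h
  have hb : b ∈ z := by
    rw [← hzy, Ideal.mem_comap]
    simpa using sub_mem ha ((Ideal.IsPrime.mem_or_mem inferInstance h1).resolve_left hu)
  have h2 : u * a ∈ z.map (algebraMap B0 A0) := by
    simpa [mul_sub] using add_mem h (Ideal.mul_mem_left _ u (Ideal.mem_map_of_mem (algebraMap B0 A0) hb))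
  rw [Ideal.mem_comap]
  exact (IsLocalization.algebraMap_mem_map_algebraMap_iff y.primeCompl _ _ _).2 ⟨u, hu, h2⟩

include hQ

theorem flat_localization : Module.Flat B0 (Localization.AtPrime y) := by
  set L := Localization.AtPrime y
  have hmax := map_eq_maximal z y hzy hP
  have hsurj : ∀ n, 0 < n → ∀ l : L, ∃ b : B0, l - algebraMap B0 L b ∈ (z ^ n).map (algebraMap B0 L) := by
    intro n hn l
    obtain ⟨a, ⟨s, hs⟩, rfl⟩ := IsLocalization.exists_mk'_eq y.primeCompl l
    obtain ⟨b, u, hu, h⟩ := hP n a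
    obtain ⟨bs, u', hu', h'⟩ := hP n s
    have hbs : bs ∉ z := fun hm => by
      have h1 : u' * (s - algebraMap B0 A0 bs) ∈ y :=
        Ideal.map_le_iff_le_comap.2 hzy.ge (Ideal.map_mono (Ideal.pow_le_self hn.ne') h')
      rw [← hzy, Ideal.mem_comap] at hm
      exact hs (by simpa using add_mem ((Ideal.IsPrime.mem_or_mem inferInstance h1).resolve_left hu') hm)
    obtain ⟨c, i, hi, hc⟩ := Ideal.IsMaximal.exists_inv_pow z hbs n
    refine ⟨b * c, ?_⟩
    have hus : IsUnit (algebraMap A0 L (u * u' * s)) :=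
      IsLocalization.map_units L (⟨u * u' * s,
        Submonoid.mul_mem _ (Submonoid.mul_mem _ hu hu') hs⟩ : y.primeCompl)
    rw [← Ideal.unit_mul_mem_iff_mem _ hus, mul_sub,
      show algebraMap A0 L (u * u' * s) * IsLocalization.mk' L a (⟨s, hs⟩ : y.primeCompl) =
        algebraMap A0 L (u * u' * a) by
          rw [map_mul, mul_assoc, show algebraMap A0 L s * IsLocalization.mk' L a (⟨s, hs⟩ : y.primeCompl) =
            algebraMap A0 L a from IsLocalization.mk'_spec' L a (⟨s, hs⟩ : y.primeCompl), ← map_mul],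
      IsScalarTower.algebraMap_apply B0 A0 L, ← map_mul, ← map_sub,
      IsScalarTower.algebraMap_eq B0 A0 L, ← Ideal.map_map]
    refine Ideal.mem_map_of_mem _ ?_
    rw [show u * u' * a - u * u' * s * algebraMap B0 A0 (b * c) = u' * (u * (a - algebraMap B0 A0 b)) -
      (u * algebraMap B0 A0 (b * c)) * (u' * (s - algebraMap B0 A0 bs)) +
      u * u' * algebraMap B0 A0 b * algebraMap B0 A0 (1 - bs * c) by simp only [map_mul, map_sub, map_one]; ring]
    refine add_mem (sub_mem (Ideal.mul_mem_left _ _ h) (Ideal.mul_mem_left _ _ h'))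
      (Ideal.mul_mem_left _ _ (Ideal.mem_map_of_mem _ ?_))
    rw [show 1 - bs * c = i by rw [← hc]; ring]
    exact hi
  have hflat := FlatMisc.flat_localizedModule_of_flat_pow (R := B0) (S := L) (M := L) z
    (fun n hn => ?_) (maximalIdeal L) hmax.le
  · haveI := hflat
    haveI : IsLocalization (maximalIdeal L).primeCompl L :=
      IsLocalization.self fun l hl => not_not.1 ((IsLocalRing.mem_maximalIdeal l).not.1 hl)
    haveI : IsLocalizedModule (maximalIdeal L).primeCompl (LinearMap.id : L →ₗ[L] L) :=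
      isLocalizedModule_id _ L L
    exact Module.Flat.of_linearEquiv
      (((IsLocalizedModule.iso (maximalIdeal L).primeCompl (LinearMap.id : L →ₗ[L] L)).restrictScalars B0).symm)
  · have hb : Function.Bijective (Algebra.linearMap (B0 ⧸ z ^ n) ((B0 ⧸ z ^ n) ⊗[B0] L)) := by
      refine ⟨fun q q' hq => ?_, fun e => ?_⟩
      · obtain ⟨b, rfl⟩ := Ideal.Quotient.mk_surjective q
        obtain ⟨b', rfl⟩ := Ideal.Quotient.mk_surjective q'
        let ev : (B0 ⧸ z ^ n) ⊗[B0] L →ₐ[B0] L ⧸ (z ^ n).map (algebraMap B0 L) :=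
          Algebra.TensorProduct.lift
            (Ideal.Quotient.liftₐ _ (Algebra.ofId B0 _) fun c hc => by
              rw [Algebra.ofId_apply, IsScalarTower.algebraMap_apply B0 L, Ideal.Quotient.algebraMap_eq,
                Ideal.Quotient.eq_zero_iff_mem]
              exact Ideal.mem_map_of_mem _ hc)
            (Ideal.Quotient.mkₐ B0 _) (fun _ _ => Commute.all _ _)
        have h := congrArg ev hq
        change ev (Ideal.Quotient.mk _ b ⊗ₜ[B0] (1 : L)) = ev (Ideal.Quotient.mk _ b' ⊗ₜ[B0] (1 : L)) at h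
        simp only [ev, Algebra.TensorProduct.lift_tmul, map_one, mul_one] at h
        change Ideal.Quotient.mk _ (algebraMap B0 L b) = Ideal.Quotient.mk _ (algebraMap B0 L b') at h
        rw [Ideal.Quotient.eq, ← map_sub, IsScalarTower.algebraMap_apply B0 A0 L,
          IsScalarTower.algebraMap_eq B0 A0 L, ← Ideal.map_map,
          IsLocalization.algebraMap_mem_map_algebraMap_iff y.primeCompl] at h
        obtain ⟨u, hu, hm⟩ := h
        exact Ideal.Quotient.eq.2 (hQ n _ u hu hm)
      · induction e using TensorProduct.induction_on with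
        | zero => exact ⟨0, map_zero _⟩
        | add e e' h h' =>
          obtain ⟨a, ha⟩ := h; obtain ⟨a', ha'⟩ := h'
          exact ⟨a + a', by rw [map_add, ha, ha']⟩
        | tmul q l =>
          obtain ⟨b, hb⟩ := hsurj n hn l
          refine ⟨q * Ideal.Quotient.mk _ b, ?_⟩
          have h0 : ∀ e ∈ (z ^ n).map (algebraMap B0 L), q ⊗ₜ[B0] e = 0 := by
            intro e he
            change e ∈ Ideal.map (algebraMap B0 L) (z ^ n) at he
            rw [← Submodule.restrictScalars_mem B0, ← Ideal.smul_top_eq_map] at he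
            refine Submodule.smul_induction_on he (fun c hc m _ => ?_) (fun a b ha hb => ?_)
            ·
              rw [← TensorProduct.smul_tmul, Algebra.smul_def, Ideal.Quotient.algebraMap_eq,
                Ideal.Quotient.eq_zero_iff_mem.2 hc, zero_mul, TensorProduct.zero_tmul]
            · rw [TensorProduct.tmul_add, ha, hb, add_zero]
          have := h0 _ hb
          rw [TensorProduct.tmul_sub, sub_eq_zero] at this
          rw [this]
          change (q * Ideal.Quotient.mk _ b) ⊗ₜ[B0] (1 : L) = _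
          rw [Algebra.algebraMap_eq_smul_one b, ← TensorProduct.smul_tmul, Algebra.smul_def,
            Ideal.Quotient.algebraMap_eq, mul_comm]
    exact Module.Flat.of_linearEquiv (LinearEquiv.ofBijective _ hb).symm

end Groth.Agent.InvEtale
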