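import Mathlib

/-!
# A finite flat extension realising a separable residue extension
-/

universe u

open Polynomial IntermediateField

namespace Groth.Agent.InvEtale

theorem exists_flat_residue (R : Type u) [CommRing R] [IsNoetherianRing R] (z : Ideal R) [z.IsPrime]
    (κ : Type u) [Field κ] [Algebra R κ] [Algebra z.ResidueField κ] [IsScalarTower R z.ResidueField κ]
    [Module.Finite z.ResidueField κ] :
    ∃ (D : Type u) (_ : CommRing D) (_ : Algebra R D) (ψ : D →ₐ[R] κ) (θ : κ),
      Module.Flat R D ∧ IsNoetherianRing D ∧ (RingHom.ker ψ).IsMaximal ∧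
      RingHom.ker ψ = z.map (algebraMap R D) ∧ IsPurelyInseparable (z.ResidueField⟮θ⟯) κ ∧
      IsSeparable z.ResidueField θ ∧
      θ ∈ ψ.range ∧ Set.range (algebraMap z.ResidueField κ) ⊆ ψ.range ∧
      ∀ d, ψ d ∈ z.ResidueField⟮θ⟯ := by
  let Rz := Localization.AtPrime z
  let k := z.ResidueField
  letI : Algebra Rz κ := ((algebraMap k κ).comp (algebraMap Rz k)).toAlgebra
  haveI : IsScalarTower R Rz κ := IsScalarTower.of_algebraMap_eq fun r => by
    rw [RingHom.algebraMap_toAlgebra, RingHom.comp_apply, ← IsScalarTower.algebraMap_apply R Rz k,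
      ← IsScalarTower.algebraMap_apply R k κ]
  haveI : IsScalarTower Rz k κ := IsScalarTower.of_algebraMap_eq fun _ => rfl
  obtain ⟨α, hα⟩ := Field.exists_primitive_element k (separableClosure k κ)
  let θ : κ := α.1
  have hsep : IsSeparable k θ := mem_separableClosure_iff.1 α.2
  have hθ : separableClosure k κ = k⟮θ⟯ := by
    have := congrArg IntermediateField.lift hα
    rw [IntermediateField.lift_adjoin_simple, IntermediateField.lift_top] at this
    exact this.symm
  have hint : IsIntegral k θ := Algebra.IsIntegral.isIntegral θ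
  have hsurj : Function.Surjective (algebraMap Rz k) := IsLocalRing.residue_surjective
  obtain ⟨f, hf, -, hmon⟩ := Polynomial.lifts_and_degree_eq_and_monic
    (Polynomial.map_surjective (algebraMap Rz k) hsurj (minpoly k θ)) (minpoly.monic hint)
  have haev : ∀ g : Rz[X], aeval θ g = aeval θ (g.map (algebraMap Rz k)) := fun g =>
    (aeval_map_algebraMap k θ g).symm
  let D := AdjoinRoot f
  have hroot : aeval θ f = 0 := by rw [haev, hf, minpoly.aeval]
  let ψ : D →ₐ[Rz] κ := AdjoinRoot.liftAlgHom f (Algebra.ofId Rz κ) θ (by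
    rw [Polynomial.aeval_def] at hroot; exact hroot)
  haveI : Module.Finite Rz D := hmon.finite_adjoinRoot
  haveI : Module.Free Rz D := hmon.free_adjoinRoot
  haveI : Module.Flat R Rz := IsLocalization.flat Rz z.primeCompl
  haveI : Module.Flat R D := Module.Flat.trans R Rz D
  haveI : IsNoetherianRing Rz := IsLocalization.isNoetherianRing z.primeCompl Rz inferInstance
  have hN : IsNoetherianRing D := isNoetherian_of_tower Rz inferInstance
  have hψ : ∀ g : Rz[X], ψ (AdjoinRoot.mk f g) = aeval θ g := fun g => by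
    simp [ψ, AdjoinRoot.liftAlgHom, aeval_def]
    rfl
  have hker : RingHom.ker (ψ.restrictScalars R) = z.map (algebraMap R D) := by
    rw [IsScalarTower.algebraMap_eq R Rz D, ← Ideal.map_map, Localization.AtPrime.map_eq_maximalIdeal]
    refine le_antisymm (fun d hd => ?_) (Ideal.map_le_iff_le_comap.2 fun r hr => ?_)
    · obtain ⟨g, rfl⟩ := AdjoinRoot.mk_surjective d
      have h1 : aeval θ (g.map (algebraMap Rz k)) = 0 := by rw [← haev, ← hψ]; exact hd
      obtain ⟨q, hq⟩ := minpoly.dvd k θ h1
      obtain ⟨q, rfl⟩ := Polynomial.map_surjective (algebraMap Rz k) hsurj q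
      have h2 : g - f * q ∈ (IsLocalRing.maximalIdeal Rz).map C := by
        rw [Ideal.mem_map_C_iff]
        intro n
        rw [← IsLocalRing.ker_residue, RingHom.mem_ker]
        change algebraMap Rz k _ = 0
        rw [← coeff_map, Polynomial.map_sub, Polynomial.map_mul, hf, hq, sub_self, coeff_zero]
      have h3 := Ideal.mem_map_of_mem (AdjoinRoot.mk f) h2
      rw [Ideal.map_map] at h3
      rw [map_sub, map_mul, AdjoinRoot.mk_self, zero_mul, sub_zero] at h3
      exact h3
    · have h0 : algebraMap Rz k r = 0 := by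
        change IsLocalRing.residue Rz r = 0
        exact (IsLocalRing.residue_eq_zero_iff r).2 hr
      change ψ (algebraMap Rz D r) = 0
      rw [AlgHom.commutes, RingHom.algebraMap_toAlgebra, RingHom.comp_apply, h0, map_zero]
  have hk : Set.range (algebraMap k κ) ⊆ (ψ.restrictScalars R).range := by
    rintro _ ⟨c, rfl⟩
    obtain ⟨r, rfl⟩ := hsurj c
    exact ⟨algebraMap Rz D r, ψ.commutes r⟩
  have hθr : θ ∈ (ψ.restrictScalars R).range := ⟨AdjoinRoot.root f, by
    change ψ (AdjoinRoot.mk f X) = θ
    rw [hψ, aeval_X]⟩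
  have hmax : (RingHom.ker (ψ.restrictScalars R)).IsMaximal := by
    haveI : (RingHom.ker (ψ.restrictScalars R)).IsPrime := RingHom.ker_isPrime _
    haveI : Algebra.IsIntegral Rz D := Algebra.IsIntegral.of_finite Rz D
    refine Ideal.isMaximal_of_isIntegral_of_isMaximal_comap (R := Rz) _ ?_
    have : (RingHom.ker (ψ.restrictScalars R)).comap (algebraMap Rz D) = IsLocalRing.maximalIdeal Rz := by
      ext r
      change ψ (algebraMap Rz D r) = 0 ↔ _
      rw [AlgHom.commutes, RingHom.algebraMap_toAlgebra, RingHom.comp_apply, map_eq_zero,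
        ← IsLocalRing.residue_eq_zero_iff]
      rfl
    rw [this]
    infer_instance
  refine ⟨D, inferInstance, inferInstance, ψ.restrictScalars R, θ, inferInstance, hN, hmax, hker,
    hθ ▸ separableClosure.isPurelyInseparable k κ, hsep, hθr, hk, fun d => ?_⟩
  obtain ⟨g, rfl⟩ := AdjoinRoot.mk_surjective d
  change ψ (AdjoinRoot.mk f g) ∈ _
  rw [hψ, haev]
  exact IntermediateField.algebra_adjoin_le_adjoin k {θ} (Polynomial.aeval_mem_adjoin_singleton k θ)

end Groth.Agent.InvEtale
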