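import Groth.Agent.InvEtale.Core
import Groth.Agent.InvEtale.Local
import Groth.Agent.InvEtale.Tensor
import Groth.Agent.InvEtale.Residue
import Groth.Agent.EtLoc7.Basic
import Groth.Agent.FlatLoc6.FiberComp

/-!
# Invariants of an étale equivariant map with equal inertia are étale
-/

universe u v

open scoped Pointwise TensorProduct IntermediateField

namespace Groth.Agent.InvEtale

set_option maxHeartbeats 1000000 in
theorem isEtaleAt_invariants {B0 A0 B A : Type u} [CommRing B0] [CommRing A0] [CommRing B] [CommRing A]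
    [Algebra B0 A0] [Algebra B0 B] [Algebra A0 A] [Algebra B0 A] [Algebra B A] [IsScalarTower B0 A0 A]
    [IsScalarTower B0 B A] [IsNoetherianRing B0] [Algebra.FiniteType B0 A0]
    [Module.Finite B0 B] [Module.Finite A0 A] [FaithfulSMul B0 B] [FaithfulSMul A0 A]
    {G : Type v} [Group G] [Finite G] [MulSemiringAction G B] [MulSemiringAction G A]
    [SMulCommClass G B0 B] [SMulCommClass G A0 A] [Algebra.IsInvariant B0 B G] [Algebra.IsInvariant A0 A G]
    (hG : ∀ (g : G) (b : B), algebraMap B A (g • b) = g • algebraMap B A b)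
    (x : Ideal A) [x.IsPrime] [Algebra.IsEtaleAt B x]
    (hin : x.inertia G = (x.comap (algebraMap B A)).inertia G) :
    Algebra.IsEtaleAt B0 (x.comap (algebraMap A0 A)) := by
  have : IsNoetherianRing A0 := Algebra.FiniteType.isNoetherianRing B0 A0
  have : IsNoetherianRing B := Algebra.FiniteType.isNoetherianRing B0 B
  have : Algebra.FiniteType A0 A := inferInstance
  have : Algebra.FiniteType B0 A := Algebra.FiniteType.trans (S := A0) inferInstance inferInstance
  have : Algebra.FiniteType B A := Algebra.FiniteType.of_restrictScalars_finiteType B0 B A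
  have : Algebra.FinitePresentation B A := Algebra.FinitePresentation.of_finiteType.mp inferInstance
  haveI : SMulCommClass G B0 A := ⟨fun g r a => by
    rw [← IsScalarTower.algebraMap_smul A0 r a, smul_comm, IsScalarTower.algebraMap_smul]⟩
  set w := x.comap (algebraMap B A) with hwdef
  set y := x.comap (algebraMap A0 A) with hydef
  set z := w.comap (algebraMap B0 B) with hzdef
  haveI : w.IsPrime := Ideal.IsPrime.comap _
  haveI : y.IsPrime := Ideal.IsPrime.comap _
  haveI : z.IsPrime := Ideal.IsPrime.comap _
  haveI : w.LiesOver z := ⟨rfl⟩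
  haveI : x.LiesOver w := ⟨rfl⟩
  haveI hxz : x.LiesOver z := Ideal.LiesOver.trans x w z
  letI := Localization.AtPrime.algebraOfLiesOver z w
  letI := Localization.AtPrime.algebraOfLiesOver w x
  letI := Localization.AtPrime.algebraOfLiesOver z x
  let κ := x.ResidueField
  have hwκ : ∀ b, algebraMap w.ResidueField κ (algebraMap B w.ResidueField b) =
      algebraMap A κ (algebraMap B A b) := fun b => by
    rw [← IsScalarTower.algebraMap_apply B w.ResidueField x.ResidueField,
      ← IsScalarTower.algebraMap_apply B A x.ResidueField]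
  have hzκ : ∀ r, algebraMap z.ResidueField κ (algebraMap B0 z.ResidueField r) = algebraMap B0 κ r := fun r =>
    (IsScalarTower.algebraMap_apply B0 z.ResidueField x.ResidueField r).symm
  haveI : IsScalarTower z.ResidueField w.ResidueField x.ResidueField := IsScalarTower.of_algebraMap_eq' (by
    refine Ideal.ResidueField.ringHom_ext (RingHom.ext fun r => ?_)
    simp only [RingHom.comp_apply]
    rw [← IsScalarTower.algebraMap_apply B0 z.ResidueField x.ResidueField,
      ← IsScalarTower.algebraMap_apply B0 z.ResidueField w.ResidueField,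
      IsScalarTower.algebraMap_apply B0 B w.ResidueField, ← IsScalarTower.algebraMap_apply B w.ResidueField x.ResidueField,
      IsScalarTower.algebraMap_apply B A x.ResidueField, ← IsScalarTower.algebraMap_apply B0 B A,
      ← IsScalarTower.algebraMap_apply B0 A x.ResidueField])
  obtain ⟨-, -, hfin, hsep⟩ := (EtLoc7.isEtaleAt_iff B A w x).mp inferInstance
  haveI : Module.Finite w.ResidueField κ := hfin
  haveI : Algebra.IsSeparable w.ResidueField κ := hsep
  haveI : Module.Finite z.ResidueField κ := Module.Finite.trans w.ResidueField κ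
  obtain ⟨D, _, _, ψ, θ, hDflat, hDN, hDmax, hker, hpi, hθsep, hθ, hk, hψD⟩ := exists_flat_residue B0 z κ
  -- the base change
  let B' := D ⊗[B0] B
  let A' := D ⊗[B0] A
  let A0' := D ⊗[B0] A0
  let φ' : B' →ₐ[D] A' := Algebra.TensorProduct.map (AlgHom.id D D) (IsScalarTower.toAlgHom B0 B A)
  let j : A0' →ₐ[D] A' := Algebra.TensorProduct.map (AlgHom.id D D) (IsScalarTower.toAlgHom B0 A0 A)
  letI algA' : Algebra B' A' := φ'.toRingHom.toAlgebra
  letI algA0' : Algebra A0' A' := j.toRingHom.toAlgebra
  haveI : IsScalarTower D B' A' := IsScalarTower.of_algebraMap_eq fun d => (φ'.commutes d).symm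
  haveI : IsScalarTower D A0' A' := IsScalarTower.of_algebraMap_eq fun d => (j.commutes d).symm
  letI : MulSemiringAction G B' := tensorAction B0 D B G
  letI : MulSemiringAction G A' := tensorAction B0 D A G
  have hφG : ∀ (g : G) (c : B'), φ' (g • c) = g • φ' c := fun g c => by
    induction c using TensorProduct.induction_on with
    | zero => simp
    | add a b ha hb => rw [smul_add, map_add, map_add, ha, hb, smul_add]
    | tmul d b =>
      rw [tensorAction_tmul, Algebra.TensorProduct.map_tmul, Algebra.TensorProduct.map_tmul, tensorAction_tmul]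
      simp [hG]
  haveI : SMulCommClass G D B' := ⟨fun g d c => by
    induction c using TensorProduct.induction_on with
    | zero => simp
    | add a b ha hb => rw [smul_add, smul_add, ha, hb, smul_add, smul_add]
    | tmul e b => rw [TensorProduct.smul_tmul', tensorAction_tmul, tensorAction_tmul, TensorProduct.smul_tmul']⟩
  have hjinv : ∀ (g : G) (e : A0'), g • j e = j e := fun g e => smul_map B0 D A G A0 g e
  haveI : SMulCommClass G A0' A' := ⟨fun g e c => by
    rw [Algebra.smul_def, Algebra.smul_def, RingHom.algebraMap_toAlgebra, smul_mul']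
    exact congrArg (· * g • c) (hjinv g e)⟩
  haveI : Algebra.IsInvariant A0' A' G := ⟨fun c hc => exists_of_invariant B0 D A G A0 c hc⟩
  haveI : FaithfulSMul A0' A' := (faithfulSMul_iff_algebraMap_injective A0' A').2 (map_injective B0 D A A0)
  haveI : Algebra.IsInvariant D B' G := ⟨fun c hc => by
    obtain ⟨e, he⟩ := exists_of_invariant B0 D B G B0 c hc
    refine ⟨Algebra.TensorProduct.rid B0 B0 D e, he ▸ ?_⟩
    clear he
    induction e using TensorProduct.induction_on with
    | zero => simp
    | add a b ha hb => rw [map_add, map_add, map_add, ha, hb]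
    | tmul d r =>
      rw [Algebra.TensorProduct.rid_tmul, Algebra.TensorProduct.map_tmul]
      change (r • d) ⊗ₜ[B0] (1 : B) = d ⊗ₜ[B0] algebraMap B0 B r
      rw [TensorProduct.smul_tmul, ← Algebra.algebraMap_eq_smul_one]⟩
  haveI : FaithfulSMul D B' := (faithfulSMul_iff_algebraMap_injective D B').2 fun d d' h => by
    refine (Algebra.TensorProduct.rid B0 B0 D).symm.injective (map_injective B0 D B B0 ?_)
    simp only [Algebra.TensorProduct.rid_symm_apply, Algebra.TensorProduct.map_tmul, map_one]
    exact h
  haveI : Module.Finite A0' A' := finite_map B0 D A A0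
  haveI : IsNoetherianRing A0' := Algebra.FiniteType.isNoetherianRing D A0'
  haveI : IsNoetherianRing B' := Algebra.FiniteType.isNoetherianRing D B'
  -- the point
  let ψA : A' →ₐ[B0] κ := Algebra.TensorProduct.lift ψ (IsScalarTower.toAlgHom B0 A κ) fun _ _ => Commute.all _ _
  have hψA : ∀ d a, ψA (d ⊗ₜ[B0] a) = ψ d * algebraMap A κ a := fun d a => Algebra.TensorProduct.lift_tmul _ _ _ d a
  let ψB : B' →ₐ[B0] κ := ψA.comp (φ'.restrictScalars B0)
  have hψB : ∀ d b, ψB (d ⊗ₜ[B0] b) = ψ d * algebraMap A κ (algebraMap B A b) := fun d b => by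
    exact (congrArg ψA (Algebra.TensorProduct.map_tmul _ _ d b)).trans (hψA d _)
  have hθB : θ ∈ ψB.range := by
    obtain ⟨d, hd⟩ := hθ; exact ⟨d ⊗ₜ 1, (hψB d 1).trans (by simpa using hd)⟩
  let Rg : Subalgebra z.ResidueField κ :=
    { ψB.range.toSubsemiring with
      algebraMap_mem' := fun c => by
        obtain ⟨d, hd⟩ := hk ⟨c, rfl⟩
        exact ⟨d ⊗ₜ 1, (hψB d 1).trans (by simpa using hd)⟩ }
  let L : IntermediateField z.ResidueField κ := Rg.toIntermediateField fun c hc =>
    Subalgebra.inv_mem_of_algebraic Rg (x := ⟨c, hc⟩) (Algebra.IsAlgebraic.isAlgebraic _)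
  let Kθ : IntermediateField z.ResidueField κ := z.ResidueField⟮θ⟯
  have hKL : Kθ ≤ L := IntermediateField.adjoin_le_iff.2 (Set.singleton_subset_iff.2 hθB)
  haveI hpiL : IsPurelyInseparable L κ := by
    letI : Algebra Kθ L := (IntermediateField.inclusion hKL).toRingHom.toAlgebra
    haveI : IsScalarTower Kθ L κ := IsScalarTower.of_algebraMap_eq fun _ => rfl
    haveI : IsPurelyInseparable Kθ κ := hpi
    exact IsPurelyInseparable.tower_top Kθ L κ
  have hwL : ∀ c : w.ResidueField, algebraMap w.ResidueField κ c ∈ L := fun c => by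
    obtain ⟨b, t, -, rfl⟩ := IsFractionRing.div_surjective (A := B ⧸ w) c
    obtain ⟨b, rfl⟩ := Ideal.Quotient.mk_surjective b
    obtain ⟨t, rfl⟩ := Ideal.Quotient.mk_surjective t
    have hmem : ∀ b : B, algebraMap w.ResidueField κ (algebraMap B w.ResidueField b) ∈ L := fun b =>
      ⟨1 ⊗ₜ b, by simp [hψB, hwκ]⟩
    rw [map_div₀]
    exact div_mem (hmem b) (hmem t)
  have hsurj : Function.Surjective ψB := by
    letI : Algebra w.ResidueField L := ((algebraMap w.ResidueField κ).codRestrict L hwL).toAlgebra
    haveI : IsScalarTower w.ResidueField L κ := IsScalarTower.of_algebraMap_eq fun _ => rfl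
    haveI : Algebra.IsSeparable L κ := Algebra.isSeparable_tower_top_of_isSeparable w.ResidueField L κ
    intro c
    obtain ⟨⟨l, hl⟩, rfl⟩ := IsPurelyInseparable.surjective_algebraMap_of_isSeparable L κ c
    exact hl
  have hsurjA : Function.Surjective ψA := fun c => by
    obtain ⟨e, he⟩ := hsurj c; exact ⟨φ' e, he⟩
  let x' : Ideal A' := RingHom.ker ψA
  let w' : Ideal B' := x'.comap φ'.toRingHom
  haveI : x'.IsMaximal := RingHom.ker_isMaximal_of_surjective ψA hsurjA
  haveI hwm : w'.IsMaximal := by
    rw [show w' = RingHom.ker ψB from rfl]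
    exact RingHom.ker_isMaximal_of_surjective ψB hsurj
  set z' := RingHom.ker ψ with hz'
  haveI : z'.IsMaximal := hDmax
  have hzw : w'.comap (algebraMap D B') = z' := by
    ext d
    change ψB (d ⊗ₜ[B0] (1 : B)) = 0 ↔ ψ d = 0
    simp [hψB]
  haveI : Algebra.IsIntegral A0' A' := Algebra.IsIntegral.of_finite A0' A'
  have hy' : (x'.comap (algebraMap A0' A')).IsMaximal := Ideal.isMaximal_comap_of_isIntegral_of_isMaximal x'
  -- stabilisers
  have hstab : ∀ g : G, g • w' = w' → g • x' = x' := by
    intro g hg
    have hker' : ∀ c, ψB c = 0 → ψB (g • c) = 0 := fun c hc => by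
      change g • c ∈ w'
      rw [← hg]
      exact Ideal.smul_mem_pointwise_smul g c w' hc
    let eB : B' ⧸ RingHom.ker ψB ≃+* κ := RingHom.quotientKerEquivOfSurjective hsurj
    let σ0 : κ →+* κ := (Ideal.Quotient.lift (RingHom.ker ψB)
      (ψB.toRingHom.comp (MulSemiringAction.toRingHom G B' g)) (fun c hc => hker' c hc)).comp eB.symm.toRingHom
    have hσ : ∀ c, σ0 (ψB c) = ψB (g • c) := fun c => by
      have : eB.symm (ψB c) = Ideal.Quotient.mk _ c :=
        eB.symm_apply_eq.2 (RingHom.quotientKerEquivOfSurjective_apply_mk hsurj c).symm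
      simp only [σ0, RingHom.comp_apply]
      rw [show eB.symm.toRingHom (ψB c) = eB.symm (ψB c) from rfl, this]
      rfl
    have hfix : ∀ d : D, σ0 (ψ d) = ψ d := fun d => by
      have h1 : ψB (d ⊗ₜ[B0] (1 : B)) = ψ d := by simp [hψB]
      rw [← h1, hσ, tensorAction_tmul, smul_one]
    have hfixk : ∀ c : z.ResidueField, σ0 (algebraMap z.ResidueField κ c) = algebraMap z.ResidueField κ c :=
      fun c => by obtain ⟨d, hd⟩ := hk ⟨c, rfl⟩; rw [← hd]; exact hfix d
    let σ : κ →ₐ[z.ResidueField] κ := { σ0 with commutes' := hfixk }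
    have hθfix : σ θ = θ := by obtain ⟨d, hd⟩ := hθ; rw [← hd]; exact hfix d
    haveI : IsPurelyInseparable Kθ κ := hpi
    have hext : σ.comp Kθ.val = Kθ.val := IntermediateField.algHom_ext_of_eq_adjoin _ rfl (by
      rintro c rfl
      exact hθfix)
    have hid : σ0 = RingHom.id κ := IsPurelyInseparable.injective_comp_algebraMap Kθ κ κ (RingHom.ext fun c => by
      exact congrArg (fun f : Kθ →ₐ[z.ResidueField] κ => f c) hext)
    have hgw : g ∈ w.inertia G := fun b => by
      have h1 := hσ ((1 : D) ⊗ₜ[B0] b)
      rw [hid, RingHom.id_apply, tensorAction_tmul, hψB, hψB, map_one, one_mul, one_mul] at h1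
      change algebraMap B A (g • b - b) ∈ x
      rw [← Ideal.algebraMap_residueField_eq_zero, map_sub, map_sub, h1, sub_self]
    rw [← hin] at hgw
    have hgA : ∀ c : A', ψA (g • c) = ψA c := fun c => by
      induction c using TensorProduct.induction_on with
      | zero => simp
      | add a b ha hb => rw [smul_add, map_add, ha, hb, map_add]
      | tmul d a =>
        rw [tensorAction_tmul, hψA, hψA]
        congr 1
        rw [← sub_eq_zero, ← map_sub, Ideal.algebraMap_residueField_eq_zero]
        exact hgw a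
    ext c
    rw [Ideal.mem_pointwise_smul_iff_inv_smul_mem]
    change ψA (g⁻¹ • c) = 0 ↔ ψA c = 0
    rw [← hgA (g⁻¹ • c), smul_inv_smul]
  -- étale at the new point
  letI : Algebra A A' := Algebra.TensorProduct.rightAlgebra
  letI : Algebra B A' := ((algebraMap A A').comp (algebraMap B A)).toAlgebra
  haveI : IsScalarTower B A A' := IsScalarTower.of_algebraMap_eq fun _ => rfl
  letI : Algebra B B' := Algebra.TensorProduct.rightAlgebra
  haveI : IsScalarTower B B' A' := IsScalarTower.of_algebraMap_eq fun b => by
    rw [RingHom.algebraMap_toAlgebra (φ'.toRingHom)]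
    change ((1 : D) ⊗ₜ[B0] algebraMap B A b : A') = φ' ((1 : D) ⊗ₜ[B0] b)
    exact (Algebra.TensorProduct.map_tmul (AlgHom.id D D) (IsScalarTower.toAlgHom B0 B A) (1 : D) b).symm
  haveI : IsScalarTower B0 B' A' := IsScalarTower.of_algebraMap_eq fun r => ((φ'.restrictScalars B0).commutes r).symm
  haveI h1 : Algebra.IsPushout B0 B D B' := TensorProduct.isPushout'
  haveI h2 : Algebra.IsPushout B0 A D A' := TensorProduct.isPushout'
  haveI : Algebra.IsPushout B A B' A' :=
    (Algebra.IsPushout.comp_iff (R := B0) (R' := D) (S := B) (S' := B') (T := A) (T' := A')).1 h2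
  haveI : Algebra.IsPushout B B' A A' := Algebra.IsPushout.symm inferInstance
  haveI : Algebra.IsEtaleAt B' x' := isEtaleAt_of_isPushout B A B' A' x x' (by
    ext a
    change ψA ((1 : D) ⊗ₜ[B0] a) = 0 ↔ a ∈ x
    rw [hψA, map_one, one_mul]
    exact Ideal.algebraMap_residueField_eq_zero)
  haveI : x'.LiesOver w' := ⟨rfl⟩
  haveI : Algebra.FiniteType B' A' := by
    have : Algebra.FinitePresentation B' A' :=
      Algebra.FinitePresentation.equiv (Algebra.IsPushout.equiv B B' A A')
    infer_instance
  letI := Localization.AtPrime.algebraOfLiesOver w' x'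
  obtain ⟨hflat', hmap', -, -⟩ := (EtLoc7.isEtaleAt_iff B' A' w' x').mp inferInstance
  have hlr : algebraMap (Localization.AtPrime w') (Localization.AtPrime x') =
      Localization.localRingHom w' x' φ'.toRingHom rfl := by
    refine IsLocalization.ringHom_ext w'.primeCompl (RingHom.ext fun c => ?_)
    simp only [RingHom.comp_apply, Localization.localRingHom_to_map]
    rw [← IsScalarTower.algebraMap_apply B' (Localization.AtPrime w') (Localization.AtPrime x'),
      IsScalarTower.algebraMap_apply B' A' (Localization.AtPrime x')]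
    rfl
  have hφ : ∀ c, φ'.toRingHom (algebraMap D B' c) = algebraMap A0' A' (algebraMap D A0' c) := fun c => by
    rw [← IsScalarTower.algebraMap_apply D A0' A']
    exact φ'.commutes c
  have hI : z'.map (algebraMap D B') ≤ w' := Ideal.map_le_iff_le_comap.2 hzw.ge
  have hloc := local_congruence φ'.toRingHom x' w' rfl (by rw [← hlr]; exact RingHom.flat_algebraMap_iff.2 hflat')
    (by
      rw [← hlr, ← Localization.AtPrime.map_eq_maximalIdeal, Ideal.map_map,
        ← IsScalarTower.algebraMap_eq B' (Localization.AtPrime w') (Localization.AtPrime x')]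
      exact hmap')
    (fun a => by
      obtain ⟨b, hb⟩ := hsurj (ψA a)
      exact ⟨b, 1, fun h => hwm.ne_top ((Ideal.eq_top_iff_one _).2 h), by
        change ψA (φ' b - φ' 1 * a) = 0
        rw [map_sub, map_one, one_mul, sub_eq_zero]; exact hb⟩)
    (z'.map (algebraMap D B')) hI (fun Q hQ h1 h2 => by
      haveI : Algebra.IsIntegral D B' := Algebra.IsIntegral.of_finite D B'
      have h3 : Q.comap (algebraMap D B') = z' := ((inferInstance : z'.IsMaximal).eq_of_le
        (Ideal.IsPrime.comap _ : (Q.comap (algebraMap D B')).IsPrime).ne_top (Ideal.map_le_iff_le_comap.1 h1)).symm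
      haveI : Q.IsMaximal := Ideal.isMaximal_of_isIntegral_of_isMaximal_comap (R := D) Q (h3 ▸ inferInstance)
      exact Ideal.IsMaximal.eq_of_le inferInstance hwm.ne_top h2)
  set y' := x'.comap (algebraMap A0' A') with hy'def
  haveI : y'.IsPrime := hy'.isPrime
  have hPQ := compare_pow (G := G) φ'.toRingHom hφ hφG z' x' hzw hy' hstab hloc
  have hzy : y'.comap (algebraMap D A0') = z' := by
    rw [← hzw]
    ext c
    change algebraMap A0' A' (algebraMap D A0' c) ∈ x' ↔ φ'.toRingHom (algebraMap D B' c) ∈ x'
    rw [hφ]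
  let L' := Localization.AtPrime y'
  have hflatL : Module.Flat D L' := flat_localization z' y' hzy (fun n => (hPQ n).1) (fun n => (hPQ n).2)
  have hmapL : z'.map (algebraMap D L') = IsLocalRing.maximalIdeal L' := map_eq_maximal z' y' hzy (fun n => (hPQ n).1)
  have hresL := residue_surj z' y' hzy (fun n => (hPQ n).1)
  -- descent
  let ι : A0 →+* A0' := (Algebra.TensorProduct.includeRight : A0 →ₐ[B0] A0').toRingHom
  have hιy : y = y'.comap ι := by
    ext a
    change algebraMap A0 A a ∈ x ↔ ψA (j ((1 : D) ⊗ₜ[B0] a)) = 0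
    rw [show j ((1 : D) ⊗ₜ[B0] a) = (1 : D) ⊗ₜ[B0] algebraMap A0 A a from Algebra.TensorProduct.map_tmul _ _ _ _,
      hψA, map_one, one_mul]
    exact Ideal.algebraMap_residueField_eq_zero.symm
  have hιflat : ι.Flat := by
    have h1 : (algebraMap A0 (A0 ⊗[B0] D)).Flat := RingHom.flat_algebraMap_iff.2 inferInstance
    have h2 := h1.comp (RingHom.Flat.of_bijective
      (f := (Algebra.TensorProduct.comm B0 A0 D).toRingEquiv.toRingHom) (Algebra.TensorProduct.comm B0 A0 D).bijective)
    convert h2 using 1
    ext a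
    simp [ι]
  let L0 := Localization.AtPrime y
  let lam : L0 →+* L' := Localization.localRingHom y y' ι hιy
  letI : Algebra L0 L' := lam.toAlgebra
  haveI : Module.Flat L0 L' := hιflat.localRingHom y' y hιy
  haveI : IsLocalHom (algebraMap L0 L') := Localization.isLocalHom_localRingHom _ _ _ _
  haveI : Module.FaithfullyFlat L0 L' := Module.FaithfullyFlat.of_flat_of_isLocalHom
  have hlam : ∀ a, algebraMap L0 L' (algebraMap A0 L0 a) = algebraMap A0' L' (ι a) :=
    Localization.localRingHom_to_map y y' ι hιy
  haveI : IsScalarTower B0 L0 L' := IsScalarTower.of_algebraMap_eq fun r => by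
    rw [IsScalarTower.algebraMap_apply B0 A0 L0, hlam, IsScalarTower.algebraMap_apply B0 A0' L']
    congr 1
    exact ((Algebra.TensorProduct.includeRight : A0 →ₐ[B0] A0').commutes r).symm
  haveI : Module.Flat D L' := hflatL
  haveI : Module.Flat B0 L' := Module.Flat.trans B0 D L'
  have hflat0 : Module.Flat B0 L0 := FlatLoc6.flat_left_of_faithfullyFlat B0 L0 L'
  haveI : y.LiesOver z := ⟨by
    ext r
    change algebraMap B A (algebraMap B0 B r) ∈ x ↔ algebraMap A0 A (algebraMap B0 A0 r) ∈ x
    rw [← IsScalarTower.algebraMap_apply, ← IsScalarTower.algebraMap_apply]⟩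
  letI := Localization.AtPrime.algebraOfLiesOver z y
  refine (EtLoc7.isEtaleAt_iff B0 A0 z y).mpr ⟨?_, ?_, ?_⟩
  · exact (Module.flat_iff_of_isLocalization (Localization.AtPrime z) z.primeCompl L0).mpr hflat0
  · refine Ideal.map_injective_of_faithfullyFlat (A := L0) (B := L') ?_
    rw [Ideal.map_map, ← IsScalarTower.algebraMap_eq B0 L0 L', IsScalarTower.algebraMap_eq B0 D L',
      ← Ideal.map_map, ← hker, hmapL]
    refine (le_antisymm (Ideal.map_le_iff_le_comap.2 ?_) ?_).symm
    · exact fun c hc h => hc (isUnit_of_map_unit (algebraMap L0 L') c h)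
    · rw [← hmapL, hker, Ideal.map_map, ← IsScalarTower.algebraMap_eq B0 D L', IsScalarTower.algebraMap_eq B0 L0 L',
        ← Ideal.map_map]
      refine Ideal.map_mono (IsLocalRing.le_maximalIdeal fun htop => ?_)
      have h1 := congrArg (Ideal.map (algebraMap L0 L')) htop
      rw [Ideal.map_map, ← IsScalarTower.algebraMap_eq B0 L0 L', IsScalarTower.algebraMap_eq B0 D L',
        ← Ideal.map_map, ← hker, hmapL, Ideal.map_top] at h1
      exact Ideal.IsMaximal.ne_top inferInstance h1
  · letI : Algebra y.ResidueField κ := (Ideal.ResidueField.map y x (algebraMap A0 A) rfl).toAlgebra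
    haveI : IsScalarTower z.ResidueField y.ResidueField κ := IsScalarTower.of_algebraMap_eq' (by
      refine Ideal.ResidueField.ringHom_ext (RingHom.ext fun r => ?_)
      simp only [RingHom.comp_apply, hzκ]
      rw [← IsScalarTower.algebraMap_apply B0 z.ResidueField y.ResidueField,
        IsScalarTower.algebraMap_apply B0 A0 y.ResidueField, RingHom.algebraMap_toAlgebra,
        Ideal.ResidueField.map_algebraMap, ← IsScalarTower.algebraMap_apply B0 A0 A,
        ← IsScalarTower.algebraMap_apply B0 A κ])
    let e : y.ResidueField →ₐ[z.ResidueField] κ := IsScalarTower.toAlgHom _ _ _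
    haveI : FiniteDimensional z.ResidueField y.ResidueField :=
      Module.Finite.of_injective e.toLinearMap e.injective
    refine ⟨inferInstance, ⟨fun c => ?_⟩⟩
    suffices h : IsSeparable z.ResidueField (e c) from IsSeparable.of_algHom e h
    have hmem : ∀ a : A0, algebraMap A κ (algebraMap A0 A a) ∈ Kθ := fun a => by
      obtain ⟨d, hd⟩ := hresL (ι a)
      have h1 : ψA (j (ι a - algebraMap D A0' d)) = 0 := hd
      rw [map_sub, map_sub, sub_eq_zero, show j (ι a) = (1 : D) ⊗ₜ[B0] algebraMap A0 A a from
        Algebra.TensorProduct.map_tmul (AlgHom.id D D) (IsScalarTower.toAlgHom B0 A0 A) (1 : D) a, hψA,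
        map_one, one_mul, j.commutes] at h1
      rw [h1, show ψA (algebraMap D A' d) = ψ d from (hψA d 1).trans (by rw [map_one, mul_one])]
      exact hψD d
    obtain ⟨a, s, -, rfl⟩ := IsFractionRing.div_surjective (A := A0 ⧸ y) c
    obtain ⟨a, rfl⟩ := Ideal.Quotient.mk_surjective a
    obtain ⟨s, rfl⟩ := Ideal.Quotient.mk_surjective s
    have hKsep : ∀ l ∈ Kθ, IsSeparable z.ResidueField l := fun l hl => by
      have : Kθ ≤ separableClosure z.ResidueField κ := IntermediateField.adjoin_le_iff.2
        (Set.singleton_subset_iff.2 (mem_separableClosure_iff.2 hθsep))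
      exact mem_separableClosure_iff.1 (this hl)
    refine hKsep _ ?_
    rw [map_div₀]
    have he : ∀ a : A0, e (algebraMap A0 y.ResidueField a) = algebraMap A κ (algebraMap A0 A a) := fun a =>
      Ideal.ResidueField.map_algebraMap _ _ _ _ a
    exact div_mem ((he a) ▸ hmem a) ((he s) ▸ hmem s)

end Groth.Agent.InvEtale
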