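import Mathlib

/-!
# Quotients by powers of an ideal: local and invariant comparisons
-/

universe u v

open IsLocalRing
open scoped Pointwise

namespace Groth.Agent.InvEtale

/-- Artin–Rees for contraction along an injective finite map. -/
theorem exists_comap_pow_le {R S : Type u} [CommRing R] [CommRing S] [Algebra R S] [IsNoetherianRing R]
    [Module.Finite R S] [FaithfulSMul R S] (I : Ideal R) :
    ∃ c, ∀ n (r : R), algebraMap R S r ∈ (I ^ (n + c)).map (algebraMap R S) → r ∈ I ^ n := by
  obtain ⟨c, hc⟩ := I.exists_pow_inf_eq_pow_smul (LinearMap.range (Algebra.linearMap R S))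
  refine ⟨c, fun n r hr => ?_⟩
  have h1 : algebraMap R S r ∈ I ^ (n + c) • (⊤ : Submodule R S) ⊓ LinearMap.range (Algebra.linearMap R S) :=
    ⟨by rw [Ideal.smul_top_eq_map]; exact hr, r, rfl⟩
  rw [hc (n + c) (Nat.le_add_left _ _), Nat.add_sub_cancel] at h1
  have h2 : algebraMap R S r ∈ I ^ n • LinearMap.range (Algebra.linearMap R S) :=
    Submodule.smul_mono le_rfl inf_le_right h1
  rw [LinearMap.range_eq_map, ← Submodule.map_smul''] at h2
  obtain ⟨r', hr', h'⟩ := h2
  rw [Ideal.smul_eq_mul, Ideal.mul_top] at hr'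
  rwa [← FaithfulSMul.algebraMap_injective R S h']

/-- An element invariant modulo a high power is congruent to an invariant one. -/
theorem exists_invariant_approx {R S : Type u} [CommRing R] [CommRing S] [Algebra R S] [IsNoetherianRing R]
    [Module.Finite R S] {G : Type v} [Group G] [Finite G] [MulSemiringAction G S] [SMulCommClass G R S]
    [Algebra.IsInvariant R S G] (I : Ideal R) :
    ∃ c, ∀ n (b : S), (∀ g : G, g • b - b ∈ (I ^ (n + c)).map (algebraMap R S)) →
      ∃ r, b - algebraMap R S r ∈ (I ^ n).map (algebraMap R S) := by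
  classical
  have := Fintype.ofFinite G
  let d : S →ₗ[R] (G → S) :=
    LinearMap.pi fun g => (MulSemiringAction.toAlgHom R S g).toLinearMap - LinearMap.id
  obtain ⟨c, hc⟩ := I.exists_pow_inf_eq_pow_smul (LinearMap.range d)
  refine ⟨c, fun n b hb => ?_⟩
  have h1 : d b ∈ I ^ (n + c) • (⊤ : Submodule R (G → S)) := by
    rw [← Finset.univ_sum_single (d b)]
    refine Submodule.sum_mem _ fun g _ => ?_
    have hg : d b g ∈ I ^ (n + c) • (⊤ : Submodule R S) := by
      rw [Ideal.smul_top_eq_map]; exact hb g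
    have := Submodule.mem_map_of_mem (f := LinearMap.single R (fun _ : G => S) g) hg
    rw [Submodule.map_smul''] at this
    exact Submodule.smul_mono le_rfl le_top this
  have h2 : d b ∈ I ^ n • LinearMap.range d := by
    have := (hc (n + c) (Nat.le_add_left _ _)).le ⟨h1, b, rfl⟩
    rw [Nat.add_sub_cancel] at this
    exact Submodule.smul_mono le_rfl inf_le_right this
  rw [LinearMap.range_eq_map, ← Submodule.map_smul''] at h2
  obtain ⟨b', hb', h'⟩ := h2
  have hinv : ∀ g : G, g • (b - b') = b - b' := fun g => by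
    have : (g • b - b) - (g • b' - b') = 0 := sub_eq_zero.2 (congrFun h' g).symm
    rw [smul_sub, ← sub_eq_zero, ← this]
    ring
  obtain ⟨r, hr⟩ := Algebra.IsInvariant.isInvariant (A := R) (G := G) (b - b') hinv
  exact ⟨r, by rw [hr, sub_sub_cancel]; rw [Ideal.smul_top_eq_map] at hb'; exact hb'⟩

/-- A map inducing a surjection on residue rings is surjective modulo powers. -/
theorem exists_sub_mem_pow {R S : Type u} [CommRing R] [CommRing S] (ψ : R →+* S) (m : Ideal R)
    (hone : ∀ z : S, ∃ b : R, z - ψ b ∈ m.map ψ) :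
    ∀ (k : ℕ) (z : S), ∃ b : R, z - ψ b ∈ m.map ψ ^ k := by
  intro k
  induction k with
  | zero => exact fun z => ⟨0, by simp [Ideal.one_eq_top]⟩
  | succ k ih =>
    have hall : ∀ e ∈ (m ^ k).map ψ, ∃ b : R, e - ψ b ∈ m.map ψ ^ (k + 1) := by
      intro e he
      rw [Ideal.map] at he
      induction he using Submodule.span_induction with
      | mem _ h =>
        obtain ⟨c, _, rfl⟩ := h
        exact ⟨c, by simp⟩
      | zero => exact ⟨0, by simp⟩
      | add e e' _ _ h h' =>
        obtain ⟨c, hc⟩ := h; obtain ⟨c', hc'⟩ := h'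
        exact ⟨c + c', by rw [map_add, add_sub_add_comm]; exact add_mem hc hc'⟩
      | smul r e he h =>
        obtain ⟨c, hc⟩ := h
        obtain ⟨r', hr'⟩ := hone r
        refine ⟨r' * c, ?_⟩
        have hek : e ∈ m.map ψ ^ k := by rw [← Ideal.map_pow]; exact he
        rw [show r • e - ψ (r' * c) = ψ r' * (e - ψ c) + (r - ψ r') * e by rw [map_mul, smul_eq_mul]; ring]
        refine add_mem (Ideal.mul_mem_left _ _ hc) ?_
        rw [pow_succ']
        exact Ideal.mul_mem_mul hr' hek
    intro z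
    obtain ⟨b, hb⟩ := ih z
    rw [← Ideal.map_pow] at hb
    obtain ⟨b', hb'⟩ := hall _ hb
    exact ⟨b + b', by rw [map_add, ← sub_sub]; exact hb'⟩

/-- Residual surjectivity passes to the local rings. -/
theorem residue_surjective {B A : Type u} [CommRing B] [CommRing A] (φ : B →+* A)
    (x : Ideal A) [x.IsPrime] (w : Ideal B) [w.IsPrime] (hw : w = x.comap φ)
    (hres : ∀ a : A, ∃ b t, t ∉ w ∧ φ b - φ t * a ∈ x) (z : Localization.AtPrime x) :
    ∃ b : Localization.AtPrime w,
      z - Localization.localRingHom w x φ hw b ∈ maximalIdeal (Localization.AtPrime x) := by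
  obtain ⟨a, ⟨s, hs⟩, rfl⟩ := IsLocalization.exists_mk'_eq x.primeCompl z
  obtain ⟨b, t, ht, hab⟩ := hres a
  obtain ⟨b', t', ht', hab'⟩ := hres s
  have hb' : b' ∉ w := fun h => by
    have h1 : φ b' ∈ x := by rw [hw] at h; exact h
    have h2 : φ t' * s ∈ x := by simpa using sub_mem h1 hab'
    exact (Ideal.IsPrime.mem_or_mem inferInstance h2).elim (fun h => ht' (by rw [hw]; exact h)) hs
  have htb : t * b' ∈ w.primeCompl := Submonoid.mul_mem _ ht hb'
  refine ⟨IsLocalization.mk' _ (b * t') (⟨t * b', htb⟩ : w.primeCompl), ?_⟩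
  have hy : φ (t * b') ∈ x.primeCompl := fun h => htb (by rw [hw]; exact h)
  rw [Localization.localRingHom_mk', ← IsLocalization.mk'_sub, IsLocalization.AtPrime.mk'_mem_maximal_iff _ x]
  show a * φ (t * b') - φ (b * t') * s ∈ x
  rw [show a * φ (t * b') - φ (b * t') * s =
    φ b * (φ b' - φ t' * s) - φ b' * (φ b - φ t * a) by simp only [map_mul]; ring]
  exact sub_mem (Ideal.mul_mem_left _ _ hab') (Ideal.mul_mem_left _ _ hab)

/-- Congruences at a prime of a flat local map with the same residue field. -/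
theorem local_congruence {B A : Type u} [CommRing B] [CommRing A] (φ : B →+* A) [IsNoetherianRing B]
    (x : Ideal A) [x.IsPrime] (w : Ideal B) [w.IsPrime] (hw : w = x.comap φ)
    (hflat : (Localization.localRingHom w x φ hw).Flat)
    (hmap : (maximalIdeal (Localization.AtPrime w)).map (Localization.localRingHom w x φ hw) =
      maximalIdeal (Localization.AtPrime x))
    (hres : ∀ a : A, ∃ b t, t ∉ w ∧ φ b - φ t * a ∈ x)
    (I : Ideal B) (hI : I ≤ w) (hmin : ∀ Q : Ideal B, Q.IsPrime → I ≤ Q → Q ≤ w → Q = w) (N : ℕ) :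
    (∀ b, ∀ s ∉ x, s * φ b ∈ (I ^ N).map φ → ∃ t ∉ w, t * b ∈ I ^ N) ∧
    (∀ a, ∃ b t v, t ∉ w ∧ v ∉ x ∧ v * (φ b - φ t * a) ∈ (I ^ N).map φ) ∧
    (∀ a ∈ x, ∃ M v, v ∉ x ∧ v * a ^ M ∈ (I ^ N).map φ) := by
  set Bw := Localization.AtPrime w
  set Ax := Localization.AtPrime x
  let ψ := Localization.localRingHom w x φ hw
  letI : Algebra Bw Ax := ψ.toAlgebra
  haveI : Module.Flat Bw Ax := hflat
  haveI : IsLocalHom (algebraMap Bw Ax) := Localization.isLocalHom_localRingHom _ _ _ _
  haveI : Module.FaithfullyFlat Bw Ax := Module.FaithfullyFlat.of_flat_of_isLocalHom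
  have hψ : ∀ b, algebraMap Bw Ax (algebraMap B Bw b) = algebraMap A Ax (φ b) :=
    Localization.localRingHom_to_map w x φ hw
  set J := (I ^ N).map (algebraMap B Bw)
  have hJ : ((I ^ N).map φ).map (algebraMap A Ax) = J.map (algebraMap Bw Ax) := by
    rw [Ideal.map_map, Ideal.map_map]
    congr 1
    exact RingHom.ext fun b => (hψ b).symm
  have hrad : maximalIdeal Bw ≤ J.radical := by
    rw [Ideal.radical_eq_sInf]
    refine le_sInf fun Q hQ => ?_
    obtain ⟨hJQ, hQp⟩ := hQ
    have h1 : I ≤ Q.comap (algebraMap B Bw) := by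
      rcases Nat.eq_zero_or_pos N with rfl | hN
      · exact absurd (top_le_iff.1 (by simpa [J, Ideal.one_eq_top, Ideal.map_top] using hJQ)) hQp.ne_top
      · intro i hi
        refine (Ideal.IsPrime.comap _ : (Q.comap (algebraMap B Bw)).IsPrime).mem_of_pow_mem N ?_
        exact hJQ (Ideal.mem_map_of_mem _ (Ideal.pow_mem_pow hi N))
    have h2 : Q.comap (algebraMap B Bw) ≤ w :=
      (Ideal.comap_mono (IsLocalRing.le_maximalIdeal hQp.ne_top)).trans_eq (Localization.AtPrime.under_maximalIdeal (I := w))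
    have h3 := hmin _ inferInstance h1 h2
    rw [← IsLocalization.map_under w.primeCompl Bw Q, ← Localization.AtPrime.map_eq_maximalIdeal]
    exact Ideal.map_mono h3.ge
  obtain ⟨M, hM⟩ := Ideal.exists_pow_le_of_le_radical_of_fg_radical hrad (IsNoetherian.noetherian _)
  have hmM : maximalIdeal Ax ^ M ≤ J.map (algebraMap Bw Ax) := by
    rw [← hmap, ← Ideal.map_pow]
    exact Ideal.map_mono hM
  refine ⟨fun b s hs hb => ?_, fun a => ?_, fun a ha => ?_⟩
  · have hu : IsUnit (algebraMap A Ax s) := IsLocalization.map_units Ax (⟨s, hs⟩ : x.primeCompl)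
    have h1 : algebraMap Bw Ax (algebraMap B Bw b) ∈ J.map (algebraMap Bw Ax) := by
      rw [hψ, ← hJ, ← Ideal.unit_mul_mem_iff_mem _ hu, ← map_mul]
      exact Ideal.mem_map_of_mem _ hb
    rw [← Ideal.mem_comap, Ideal.comap_map_eq_self_of_faithfullyFlat,
      IsLocalization.algebraMap_mem_map_algebraMap_iff w.primeCompl] at h1
    exact h1
  · have key : ∀ (k : ℕ) (z : Ax), ∃ b : Bw, z - ψ b ∈ (maximalIdeal Bw).map ψ ^ k :=
      exists_sub_mem_pow ψ (maximalIdeal Bw) fun z => by rw [hmap]; exact residue_surjective φ x w hw hres z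
    rw [hmap] at key
    obtain ⟨z, hz⟩ := key M (algebraMap A Ax a)
    obtain ⟨b, ⟨t, ht⟩, rfl⟩ := IsLocalization.exists_mk'_eq w.primeCompl z
    have h1 : algebraMap A Ax (φ b - φ t * a) ∈ J.map (algebraMap Bw Ax) := by
      have hz' := Ideal.mul_mem_left _ (algebraMap Bw Ax (algebraMap B Bw t)) (hmM hz)
      rw [mul_sub, show ψ = algebraMap Bw Ax from rfl, ← map_mul (algebraMap Bw Ax),
        IsLocalization.mk'_spec' Bw b (⟨t, ht⟩ : w.primeCompl), hψ, hψ, ← map_mul, ← map_sub] at hz'
      rw [← neg_sub, map_neg]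
      exact neg_mem hz'
    rw [← hJ, IsLocalization.algebraMap_mem_map_algebraMap_iff x.primeCompl] at h1
    obtain ⟨v, hv, h⟩ := h1
    exact ⟨b, t, v, ht, hv, h⟩
  · have h1 : algebraMap A Ax (a ^ M) ∈ J.map (algebraMap Bw Ax) := by
      rw [map_pow]
      refine hmM (Ideal.pow_mem_pow ?_ M)
      rw [← Localization.AtPrime.map_eq_maximalIdeal]
      exact Ideal.mem_map_of_mem _ ha
    rw [← hJ, IsLocalization.algebraMap_mem_map_algebraMap_iff x.primeCompl] at h1
    obtain ⟨v, hv, h⟩ := h1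
    exact ⟨M, v, hv, h⟩

end Groth.Agent.InvEtale
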